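import Cfsg.Agent.Known.OrthMinDegree.Omega
import Mathlib

/-! Orthogonal groups of a hyperbolic space with an orthogonal complement. -/

set_option autoImplicit false
set_option linter.unusedSectionVars false
set_option linter.style.haveILetI false

open Matrix Cfsg.Lib.Classical Cfsg.Lib.Classical.Refl Cfsg.Lib.Classical.HypQuad Cfsg.Lib.SLMinDeg
open scoped commutatorElement

namespace Cfsg.Lib.OrthMinDeg

variable {F : Type*} [Field F] {n : ℕ} {κ : Type} [Fintype κ] [DecidableEq κ]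
  (Q0 : QuadraticForm F (κ → F))

variable (n) in
/-- The orthogonal sum of the hyperbolic space with a further space. -/
def mixForm : QuadraticForm F ((Fin n ⊕ Fin n) ⊕ κ → F) :=
  (plusForm n F).comp (LinearMap.funLeft F F Sum.inl) + Q0.comp (LinearMap.funLeft F F Sum.inr)

theorem mix_apply (v : (Fin n ⊕ Fin n) ⊕ κ → F) :
    mixForm n Q0 v = plusForm n F (v ∘ Sum.inl) + Q0 (v ∘ Sum.inr) := rfl

theorem mix_elim (a : Fin n ⊕ Fin n → F) (w : κ → F) :
    mixForm n Q0 (Sum.elim a w) = plusForm n F a + Q0 w := rfl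

theorem polar_mix (u v : (Fin n ⊕ Fin n) ⊕ κ → F) :
    QuadraticMap.polar (⇑(mixForm n Q0)) u v = QuadraticMap.polar (⇑(plusForm n F)) (u ∘ Sum.inl) (v ∘ Sum.inl) +
      QuadraticMap.polar (⇑Q0) (u ∘ Sum.inr) (v ∘ Sum.inr) := by
  simp only [QuadraticMap.polar, mix_apply]
  rw [show (u + v) ∘ Sum.inl = u ∘ Sum.inl + v ∘ Sum.inl from rfl,
    show (u + v) ∘ Sum.inr = u ∘ Sum.inr + v ∘ Sum.inr from rfl]
  ring

theorem mix_nondegenerate (h0 : (QuadraticMap.polarBilin Q0).Nondegenerate) :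
    (QuadraticMap.polarBilin (mixForm n Q0)).Nondegenerate := by
  have h1 : ∀ x : (Fin n ⊕ Fin n) ⊕ κ → F, (∀ y, QuadraticMap.polar (⇑(mixForm n Q0)) x y = 0) → x = 0 := by
    intro x hx
    have hl : x ∘ Sum.inl = 0 := (plusForm_nondegenerate n).1 _ fun y => by
      have := hx (Sum.elim y 0)
      rwa [polar_mix, Sum.elim_comp_inl, Sum.elim_comp_inr, QuadraticMap.polar_zero_right, add_zero] at this
    have hr : x ∘ Sum.inr = 0 := h0.1 _ fun y => by
      have := hx (Sum.elim 0 y)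
      rwa [polar_mix, Sum.elim_comp_inl, Sum.elim_comp_inr, QuadraticMap.polar_zero_right, zero_add] at this
    rw [← Sum.elim_comp_inl_inr x, hl, hr]
    funext i; rcases i with i | i <;> rfl
  exact ⟨h1, fun x hx => h1 x fun y => by rw [QuadraticMap.polar_comm]; exact hx y⟩

/-- A matrix with an inverse preserving the form. -/
def mkM (M N : Matrix ((Fin n ⊕ Fin n) ⊕ κ) ((Fin n ⊕ Fin n) ⊕ κ) F) (h : M * N = 1) (h' : N * M = 1)
    (hq : ∀ v, mixForm n Q0 (M *ᵥ v) = mixForm n Q0 v) : Cfsg.isometryGroup F (⇑(mixForm n Q0)) :=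
  ⟨⟨M, N, h, h'⟩, (mem_iff _).mpr hq⟩

theorem mat_mkM (M N : Matrix ((Fin n ⊕ Fin n) ⊕ κ) ((Fin n ⊕ Fin n) ⊕ κ) F) (h : M * N = 1) (h' : N * M = 1)
    (hq : ∀ v, mixForm n Q0 (M *ᵥ v) = mixForm n Q0 v) : mat (mixForm n Q0) (mkM Q0 M N h h' hq) = M := rfl

theorem mat_extM {g h : Cfsg.isometryGroup F (⇑(mixForm n Q0))}
    (e : mat (mixForm n Q0) g = mat (mixForm n Q0) h) : g = h :=
  ext_mulVec _ fun x => by rw [e]

theorem mat_mulM (g h : Cfsg.isometryGroup F (⇑(mixForm n Q0))) :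
    mat (mixForm n Q0) (g * h) = mat (mixForm n Q0) g * mat (mixForm n Q0) h := rfl

theorem mat_mul_inv {ι : Type} [Fintype ι] [DecidableEq ι] (Q : QuadraticForm F (ι → F))
    (g : Cfsg.isometryGroup F (⇑Q)) : mat Q g * mat Q g⁻¹ = 1 ∧ mat Q g⁻¹ * mat Q g = 1 :=
  ⟨(g.1.val_inv : _), (g.1.inv_val : _)⟩

/-- The isometries of the hyperbolic part. -/
def embP : Cfsg.isometryGroup F (⇑(plusForm n F)) →* Cfsg.isometryGroup F (⇑(mixForm n Q0)) where
  toFun g := mkM Q0 (fromBlocks (mat (plusForm n F) g) 0 0 1) (fromBlocks (mat (plusForm n F) g⁻¹) 0 0 1)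
    (by simp [fromBlocks_multiply, (mat_mul_inv _ g).1]) (by simp [fromBlocks_multiply, (mat_mul_inv _ g).2])
    fun v => by
      rw [fromBlocks_mulVec, mix_elim, mix_apply, zero_mulVec, zero_mulVec, one_mulVec, add_zero, zero_add,
        (mem_iff _).mp g.2]
  map_one' := mat_extM Q0 (by rw [mat_mkM, show mat (plusForm n F) 1 = 1 from rfl, fromBlocks_one]; rfl)
  map_mul' g h := mat_extM Q0 (by simp [mat_mulM, mat_mkM, mat_mul', fromBlocks_multiply])

/-- The isometries of the complement. -/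
def embW : Cfsg.isometryGroup F (⇑Q0) →* Cfsg.isometryGroup F (⇑(mixForm n Q0)) where
  toFun g := mkM Q0 (fromBlocks 1 0 0 (mat Q0 g)) (fromBlocks 1 0 0 (mat Q0 g⁻¹))
    (by simp [fromBlocks_multiply, (mat_mul_inv _ g).1]) (by simp [fromBlocks_multiply, (mat_mul_inv _ g).2])
    fun v => by
      rw [fromBlocks_mulVec, mix_elim, mix_apply, zero_mulVec, zero_mulVec, one_mulVec, add_zero, zero_add,
        (mem_iff _).mp g.2]
  map_one' := mat_extM Q0 (by rw [mat_mkM, show mat Q0 1 = 1 from rfl, fromBlocks_one]; rfl)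
  map_mul' g h := mat_extM Q0 (by
    simp [mat_mulM, mat_mkM, fromBlocks_multiply, show mat Q0 (g * h) = mat Q0 g * mat Q0 h from rfl])

theorem embP_mulVec (g : Cfsg.isometryGroup F (⇑(plusForm n F))) (a : Fin n ⊕ Fin n → F) (w : κ → F) :
    mat (mixForm n Q0) (embP Q0 g) *ᵥ Sum.elim a w = Sum.elim (mat (plusForm n F) g *ᵥ a) w := by
  show fromBlocks (mat (plusForm n F) g) 0 0 1 *ᵥ _ = _
  rw [fromBlocks_mulVec, Sum.elim_comp_inl, Sum.elim_comp_inr, zero_mulVec, zero_mulVec, one_mulVec, add_zero,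
    zero_add]

theorem embW_mulVec (g : Cfsg.isometryGroup F (⇑Q0)) (a : Fin n ⊕ Fin n → F) (w : κ → F) :
    mat (mixForm n Q0) (embW Q0 g) *ᵥ Sum.elim a w = Sum.elim a (mat Q0 g *ᵥ w) := by
  show fromBlocks 1 0 0 (mat Q0 g) *ᵥ _ = _
  rw [fromBlocks_mulVec, Sum.elim_comp_inl, Sum.elim_comp_inr, zero_mulVec, zero_mulVec, one_mulVec, add_zero,
    zero_add]

theorem hom_omega {ι ι' : Type} [Fintype ι] [DecidableEq ι] [Fintype ι'] [DecidableEq ι'] {Q : (ι → F) → F}
    {Q' : (ι' → F) → F} (f : Cfsg.isometryGroup F Q →* Cfsg.isometryGroup F Q') {g : Cfsg.isometryGroup F Q}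
    (hg : g ∈ Cfsg.Omega F Q) : f g ∈ Cfsg.Omega F Q' := by
  have hle : (commutator (Cfsg.isometryGroup F Q)).map f ≤ commutator (Cfsg.isometryGroup F Q') := by
    rw [commutator_def, commutator_def, Subgroup.map_commutator]
    exact Subgroup.commutator_mono le_top le_top
  exact hle (Subgroup.mem_map_of_mem f hg)

variable (n) in
/-- The group `Ω` of the mixed space. -/
abbrev OmM := ↥(Cfsg.Omega F (⇑(mixForm n Q0)))

/-- The group `Ω⁺` inside. -/
def embG : ↥(Cfsg.Omega F (⇑(plusForm n F))) →* OmM n Q0 :=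
  ((embP Q0).comp (Cfsg.Omega F (⇑(plusForm n F))).subtype).codRestrict _ fun g => hom_omega (embP Q0) g.2

/-- A vector of the first half. -/
def inLp (a : Fin n → F) : (Fin n ⊕ Fin n) ⊕ κ → F := Sum.elim (inL a) 0

/-- A vector of the complement. -/
def inW (w : κ → F) : (Fin n ⊕ Fin n) ⊕ κ → F := Sum.elim 0 w

theorem mix_inLp (a : Fin n → F) : mixForm n Q0 (inLp (κ := κ) a) = 0 := by
  rw [inLp, mix_elim, plus_inL, QuadraticMap.map_zero, add_zero]

theorem mix_inW (w : κ → F) : mixForm n Q0 (inW (n := n) w) = Q0 w := by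
  rw [inW, mix_elim, QuadraticMap.map_zero, zero_add]

theorem polar_Lp_Lp (a b : Fin n → F) :
    QuadraticMap.polar (⇑(mixForm n Q0)) (inLp (κ := κ) a) (inLp b) = 0 := by
  rw [polar_mix]; simp only [inLp, Sum.elim_comp_inl, Sum.elim_comp_inr]
  rw [polar_inL_inL, QuadraticMap.polar_zero_right, add_zero]

theorem polar_Lp_W (a : Fin n → F) (w : κ → F) :
    QuadraticMap.polar (⇑(mixForm n Q0)) (inLp a) (inW w) = 0 := by
  rw [polar_mix]; simp only [inLp, inW, Sum.elim_comp_inl, Sum.elim_comp_inr]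
  rw [QuadraticMap.polar_zero_right, QuadraticMap.polar_zero_left, add_zero]

theorem polar_W_W (w w' : κ → F) :
    QuadraticMap.polar (⇑(mixForm n Q0)) (inW (n := n) w) (inW w') = QuadraticMap.polar (⇑Q0) w w' := by
  rw [polar_mix]; simp only [inW, Sum.elim_comp_inl, Sum.elim_comp_inr]
  rw [QuadraticMap.polar_zero_right, zero_add]

theorem embP_siegel [Fintype F] {u z : Fin n ⊕ Fin n → F} (hu : plusForm n F u = 0)
    (huz : QuadraticMap.polar (⇑(plusForm n F)) u z = 0)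
    (hu' : mixForm n Q0 (Sum.elim u 0) = 0)
    (huz' : QuadraticMap.polar (⇑(mixForm n Q0)) (Sum.elim u 0) (Sum.elim z 0) = 0) :
    embP Q0 (siegelG (plusForm n F) hu huz) = siegelG (mixForm n Q0) hu' huz' := by
  refine ext_mulVec _ fun v => ?_
  conv_lhs => rw [← Sum.elim_comp_inl_inr v]
  rw [embP_mulVec, mat_siegelG, mat_siegelG, siegelMap, siegelMap, polar_mix, polar_mix, mix_elim,
    QuadraticMap.map_zero, add_zero]
  simp only [Sum.elim_comp_inl, Sum.elim_comp_inr, QuadraticMap.polar_zero_left, add_zero]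
  funext i
  rcases i with i | i <;> simp

section

variable [Fintype F] (h0 : (QuadraticMap.polarBilin Q0).Nondegenerate) (hn : 3 ≤ n)

include hn in
theorem card_idxM : 5 ≤ Fintype.card ((Fin n ⊕ Fin n) ⊕ κ) := by
  simp only [Fintype.card_sum, Fintype.card_fin]; omega

/-- A Siegel transformation. -/
noncomputable def sgM {u z : (Fin n ⊕ Fin n) ⊕ κ → F} (hu : mixForm n Q0 u = 0)
    (huz : QuadraticMap.polar (⇑(mixForm n Q0)) u z = 0) : OmM n Q0 :=
  ⟨siegelG (mixForm n Q0) hu huz, siegelG_mem_omega _ (mix_nondegenerate Q0 h0) (card_idxM hn) hu huz⟩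

theorem sgM_congr {u u' z z' : (Fin n ⊕ Fin n) ⊕ κ → F} {hu : mixForm n Q0 u = 0}
    {huz : QuadraticMap.polar (⇑(mixForm n Q0)) u z = 0} {hu' : mixForm n Q0 u' = 0}
    {huz' : QuadraticMap.polar (⇑(mixForm n Q0)) u' z' = 0} (eu : u = u') (ez : z = z') :
    sgM Q0 h0 hn hu huz = sgM Q0 h0 hn hu' huz' := by subst eu ez; rfl

/-- The elements of the centre of the unipotent radical. -/
noncomputable def xM (A : AltM F n) : OmM n Q0 := embG Q0 (xG hn A)

/-- The Levi elements. -/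
noncomputable def lvM : Matrix.SpecialLinearGroup (Fin n) F →* OmM n Q0 := (embG Q0).comp (lvG hn)

/-- The elements of the radical above the centre. -/
noncomputable def uM (a : Fin n → F) (w : κ → F) : OmM n Q0 :=
  sgM Q0 h0 hn (mix_inLp Q0 a) (polar_Lp_W Q0 a w)

theorem xM_add (A B : AltM F n) : xM Q0 hn (A + B) = xM Q0 hn A * xM Q0 hn B := by
  rw [xM, xG_add, map_mul]; rfl

theorem lvM_conj_x (g : Matrix.SpecialLinearGroup (Fin n) F) (A : AltM F n) :
    lvM Q0 hn g * xM Q0 hn A * (lvM Q0 hn g)⁻¹ = xM Q0 hn (cg (g : Matrix (Fin n) (Fin n) F) A) := by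
  rw [xM, xM, lvM, MonoidHom.comp_apply, ← map_mul, ← map_inv (embG Q0), ← map_mul, lvG_conj_x]

theorem xM_wd (a b : Fin n → F) :
    xM Q0 hn (wd a b) = sgM Q0 h0 hn (mix_inLp Q0 b) (polar_Lp_Lp Q0 b a) := by
  rw [xM, xG_wd]
  exact Subtype.ext (embP_siegel Q0 (plus_inL b) (polar_inL_inL b a) (mix_inLp Q0 b) (polar_Lp_Lp Q0 b a))

theorem lvM_transvection {i j : Fin n} (hij : i ≠ j) (c : F)
    (hp : QuadraticMap.polar (⇑(mixForm n Q0)) (inLp (Pi.single i (-c))) (Sum.elim (inR (Pi.single j 1)) 0) = 0) :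
    lvM Q0 hn (Matrix.SpecialLinearGroup.transvection hij c) = sgM Q0 h0 hn (mix_inLp Q0 _) hp := by
  rw [lvM, MonoidHom.comp_apply, lvG_transvection]
  exact Subtype.ext (embP_siegel Q0 (plus_inL _) (neg_single_dot hij c) (mix_inLp Q0 _) hp)

theorem uM_add_right (a : Fin n → F) (w w' : κ → F) :
    uM Q0 h0 hn a (w + w') = uM Q0 h0 hn a w * uM Q0 h0 hn a w' := by
  refine Subtype.ext ?_
  simp only [uM, sgM, Subgroup.coe_mul]
  rw [siegelG_mul]
  exact siegelG_congr _ _ _ _ rfl (by funext i; rcases i with i | i <;> simp [inW])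

theorem uM_smul_left (c : F) (a : Fin n → F) (w : κ → F) :
    uM Q0 h0 hn (c • a) w = uM Q0 h0 hn a (c • w) := by
  refine Subtype.ext (ext_mulVec _ fun v => ?_)
  simp only [uM, sgM, mat_siegelG]
  rw [
    show inLp (κ := κ) (c • a) = c • inLp a by funext i; rcases i with (i | i) | i <;> simp [inLp, inL],
    show inW (n := n) (c • w) = c • inW w by funext i; rcases i with i | i <;> simp [inW],
    OrthTwoGen.siegel_smul_left]

theorem sgM_conj (g : Cfsg.isometryGroup F (⇑(mixForm n Q0))) {u z u' z' : (Fin n ⊕ Fin n) ⊕ κ → F}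
    {hu : mixForm n Q0 u = 0} {huz : QuadraticMap.polar (⇑(mixForm n Q0)) u z = 0} {hu' : mixForm n Q0 u' = 0}
    {huz' : QuadraticMap.polar (⇑(mixForm n Q0)) u' z' = 0}
    (eu : mat (mixForm n Q0) g *ᵥ u = u') (ez : mat (mixForm n Q0) g *ᵥ z = z') :
    g * (sgM Q0 h0 hn hu huz).1 * g⁻¹ = (sgM Q0 h0 hn hu' huz').1 := by
  show g * siegelG _ hu huz * g⁻¹ = siegelG _ hu' huz'
  rw [siegelG_conj]
  exact siegelG_congr _ _ _ _ eu ez

theorem lvM_conj_u (g : Matrix.SpecialLinearGroup (Fin n) F) (a : Fin n → F) (w : κ → F) :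
    lvM Q0 hn g * uM Q0 h0 hn a w * (lvM Q0 hn g)⁻¹ = uM Q0 h0 hn ((g : Matrix (Fin n) (Fin n) F) *ᵥ a) w := by
  have e : ∀ p : Fin n ⊕ Fin n → F, ∀ z : κ → F, mat (mixForm n Q0) (lvM Q0 hn g).1 *ᵥ Sum.elim p z =
      Sum.elim (mat (plusForm n F) (lvI (Matrix.SpecialLinearGroup.toGL g)) *ᵥ p) z := fun p z =>
    embP_mulVec Q0 (lvG hn g).1 p z
  refine Subtype.ext (sgM_conj Q0 h0 hn _ ?_ ?_)
  · rw [inLp, inLp, e, mat_lvI, inL, fromBlocks_mulVec]
    congr 1
    funext i; rcases i with i | i <;> simp [inL]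
  · rw [inW, e, mulVec_zero]

theorem embW_conj_u (h : Cfsg.isometryGroup F (⇑Q0)) (hh : embW Q0 h ∈ Cfsg.Omega F (⇑(mixForm n Q0)))
    (a : Fin n → F) (w : κ → F) :
    (⟨embW Q0 h, hh⟩ : OmM n Q0) * uM Q0 h0 hn a w * (⟨embW Q0 h, hh⟩ : OmM n Q0)⁻¹ =
      uM Q0 h0 hn a (mat Q0 h *ᵥ w) :=
  Subtype.ext (sgM_conj Q0 h0 hn _ (by rw [inLp, embW_mulVec, mulVec_zero]) (by rw [inW, inW, embW_mulVec]))

theorem embW_conj_x (h : Cfsg.isometryGroup F (⇑Q0)) (hh : embW Q0 h ∈ Cfsg.Omega F (⇑(mixForm n Q0)))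
    (A : AltM F n) :
    (⟨embW Q0 h, hh⟩ : OmM n Q0) * xM Q0 hn A * (⟨embW Q0 h, hh⟩ : OmM n Q0)⁻¹ = xM Q0 hn A := by
  refine Subtype.ext (mat_extM Q0 ?_)
  show mat (mixForm n Q0) (embW Q0 h * embP Q0 (xI A) * (embW Q0 h)⁻¹) = mat (mixForm n Q0) (embP Q0 (xI A))
  rw [← map_inv]
  show fromBlocks 1 0 0 (mat Q0 h) * fromBlocks (mat (plusForm n F) (xI A)) 0 0 1 *
    fromBlocks 1 0 0 (mat Q0 h⁻¹) = fromBlocks (mat (plusForm n F) (xI A)) 0 0 1
  simp [fromBlocks_multiply, (mat_mul_inv Q0 h).1]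

theorem mat_uM (a : Fin n → F) (w : κ → F) (b : Fin n → F) (w' : κ → F) :
    mat (mixForm n Q0) (uM Q0 h0 hn a w).1 *ᵥ (inLp b + inW w') =
      inLp b + inW w' + (-QuadraticMap.polar (⇑Q0) w w') • inLp a := by
  simp only [uM, sgM]
  rw [mat_siegelG, siegelMap, QuadraticMap.polar_add_right, QuadraticMap.polar_add_right, polar_Lp_Lp, polar_Lp_W,
    polar_W_W, QuadraticMap.polar_comm (⇑(mixForm n Q0)) (inW w) (inLp b), polar_Lp_W, add_zero, zero_smul, add_zero,
    zero_add, mul_zero, sub_zero]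

theorem inW_zero : inW (n := n) (0 : κ → F) = 0 := by funext i; rcases i with i | i <;> rfl

theorem inLp_zero : inLp (κ := κ) (0 : Fin n → F) = 0 := by funext i; rcases i with (i | i) | i <;> rfl

theorem uM_comm_x (a : Fin n → F) (w : κ → F) (A : AltM F n) :
    uM Q0 h0 hn a w * xM Q0 hn A * (uM Q0 h0 hn a w)⁻¹ = xM Q0 hn A := by
  induction A using alt_induction with
  | h0 =>
    have h := xM_add Q0 hn (0 : AltM F n) 0
    rw [add_zero] at h
    rw [left_eq_mul.mp h, mul_one, mul_inv_cancel]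
  | hadd A B hA hB =>
    rw [xM_add]
    conv_rhs => rw [← hA, ← hB]
    group
  | hgen i j c _ =>
    rw [xM_wd Q0 h0 hn]
    have hfix : ∀ b : Fin n → F, mat (mixForm n Q0) (uM Q0 h0 hn a w).1 *ᵥ inLp b = inLp b := fun b => by
      have := mat_uM Q0 h0 hn a w b 0
      rwa [inW_zero, add_zero, QuadraticMap.polar_zero_right, neg_zero, zero_smul, add_zero] at this
    exact Subtype.ext (sgM_conj Q0 h0 hn _ (hfix _) (hfix _))

theorem uM_comm (a b : Fin n → F) (w w' : κ → F) :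
    uM Q0 h0 hn a w * uM Q0 h0 hn b w' =
      uM Q0 h0 hn b w' * xM Q0 hn ((-QuadraticMap.polar (⇑Q0) w w') • wd a b) * uM Q0 h0 hn a w := by
  rw [← mul_inv_eq_iff_eq_mul, ← wd_smul_left, xM_wd Q0 h0 hn]
  refine Subtype.ext ?_
  have h1 : mat (mixForm n Q0) (uM Q0 h0 hn a w).1 *ᵥ inLp b = inLp b := by
    have := mat_uM Q0 h0 hn a w b 0
    rwa [inW_zero, add_zero, QuadraticMap.polar_zero_right, neg_zero, zero_smul, add_zero] at this
  have h2 : mat (mixForm n Q0) (uM Q0 h0 hn a w).1 *ᵥ inW w' =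
      inW w' + inLp ((-QuadraticMap.polar (⇑Q0) w w') • a) := by
    have := mat_uM Q0 h0 hn a w 0 w'
    rw [inLp_zero, zero_add] at this
    rw [this]
    congr 1
    funext i; rcases i with (i | i) | i <;> simp [inLp, inL]
  simp only [Subgroup.coe_mul, Subgroup.coe_inv]
  conv_lhs => arg 1; arg 2; simp only [uM, sgM]
  conv_rhs => simp only [uM, sgM]
  rw [siegelG_conj, siegelG_mul]
  exact siegelG_congr _ _ _ _ h1 h2

theorem uM_add_left (a b : Fin n → F) (w : κ → F) :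
    uM Q0 h0 hn (a + b) w = xM Q0 hn (Q0 w • wd a b) * (uM Q0 h0 hn a w * uM Q0 h0 hn b w) := by
  rw [← wd_smul_left, xM_wd Q0 h0 hn]
  refine Subtype.ext (ext_mulVec _ fun v => ?_)
  simp only [uM, sgM, Subgroup.coe_mul]
  rw [mat_mulM, mat_mulM, ← mulVec_mulVec, ← mulVec_mulVec, mat_siegelG, mat_siegelG, mat_siegelG, mat_siegelG]
  have hab : inLp (κ := κ) (a + b) = inLp a + inLp b := by funext i; rcases i with (i | i) | i <;> simp [inLp, inL]
  have hsa : inLp (κ := κ) (Q0 w • a) = Q0 w • inLp a := by funext i; rcases i with (i | i) | i <;> simp [inLp, inL]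
  have hww : QuadraticMap.polar (⇑(mixForm n Q0)) (inW w) (inW w) = 2 * Q0 w := by
    rw [polar_W_W, QuadraticMap.polar_self, nsmul_eq_mul, Nat.cast_ofNat]
  simp only [siegelMap, hab, hsa, mix_inW, mix_inLp, QuadraticMap.map_smul, smul_zero, zero_mul, sub_zero,
    QuadraticMap.polar_add_left, QuadraticMap.polar_add_right, QuadraticMap.polar_smul_left,
    QuadraticMap.polar_smul_right, polar_Lp_Lp, polar_Lp_W, hww,
    QuadraticMap.polar_comm (⇑(mixForm n Q0)) (inW w) (inLp a),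
    QuadraticMap.polar_comm (⇑(mixForm n Q0)) (inW w) (inLp b), smul_eq_mul]
  module

theorem commutator_mem (x y : Cfsg.isometryGroup F (⇑Q0)) :
    embW Q0 ⁅x, y⁆ ∈ Cfsg.Omega F (⇑(mixForm n Q0)) := by
  rw [map_commutatorElement]
  exact Subgroup.commutator_mem_commutator (Subgroup.mem_top _) (Subgroup.mem_top _)

theorem exists_moveM {u z u' z' : (Fin n ⊕ Fin n) ⊕ κ → F} (hu : mixForm n Q0 u = 0) (hu' : mixForm n Q0 u' = 0)
    (hQ : mixForm n Q0 z = mixForm n Q0 z')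
    (huz : QuadraticMap.polar (⇑(mixForm n Q0)) u z = 0) (huz' : QuadraticMap.polar (⇑(mixForm n Q0)) u' z' = 0)
    (hu0 : u ≠ 0) (hu0' : u' ≠ 0) (hzu : z ∉ Submodule.span F {u}) (hzu' : z' ∉ Submodule.span F {u'})
    (h7 : 7 ≤ Fintype.card ((Fin n ⊕ Fin n) ⊕ κ)) (h0' : (QuadraticMap.polarBilin Q0).Nondegenerate) :
    ∃ g : OmM n Q0, mat (mixForm n Q0) g.1 *ᵥ u = u' ∧ mat (mixForm n Q0) g.1 *ᵥ z = z' := by
  classical
  have hN := mix_nondegenerate (n := n) Q0 h0'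
  obtain ⟨e₁, he₁, -, hm₁⟩ := WittQuad.exists_move_fix (mixForm n Q0) hN ⊥ (a := u) (b := u')
    (by rw [Submodule.mem_bot]; exact hu0) (by rw [Submodule.mem_bot]; exact hu0') (by rw [hu, hu'])
    (fun w hw => by rw [(Submodule.mem_bot F).mp hw]; simp)
  have hz' : e₁ z ∉ Submodule.span F {u'} := fun h => hzu (by
    obtain ⟨c, hc⟩ := Submodule.mem_span_singleton.mp h
    exact Submodule.mem_span_singleton.mpr ⟨c, e₁.injective (by rw [map_smul, hm₁, hc])⟩)
  have hp : ∀ x y, QuadraticMap.polar (⇑(mixForm n Q0)) (e₁ x) (e₁ y) =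
      QuadraticMap.polar (⇑(mixForm n Q0)) x y := fun x y => by simp only [QuadraticMap.polar, ← map_add, he₁]
  obtain ⟨e₂, he₂, hf₂, hm₂⟩ := WittQuad.exists_move_fix (mixForm n Q0) hN (Submodule.span F {u'})
    (a := e₁ z) (b := z') hz' hzu' (by rw [he₁, hQ]) (fun w hw => by
      obtain ⟨c, rfl⟩ := Submodule.mem_span_singleton.mp hw
      rw [QuadraticMap.polar_smul_left, QuadraticMap.polar_smul_left, huz']
      conv_lhs => arg 2; rw [← hm₁, hp, huz])
  obtain ⟨g, hg⟩ := exists_of_equiv (mixForm n Q0) (e₁.trans e₂) fun x => by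
    rw [LinearEquiv.trans_apply, he₂, he₁]
  set S := Submodule.span F ({u, z} : Set ((Fin n ⊕ Fin n) ⊕ κ → F)) with hS
  have hdim : Module.finrank F S ≤ 2 := by
    refine (finrank_span_le_card _).trans ?_
    rw [Set.toFinset_insert, Set.toFinset_singleton]
    exact Finset.card_le_two
  obtain ⟨g', hg', hag⟩ := exists_omega_agree (mixForm n Q0) hN (by omega) S (by omega) g
  refine ⟨⟨g', hg'⟩, ?_, ?_⟩
  · rw [hag _ (Submodule.subset_span (by simp)), hg, LinearEquiv.trans_apply, hm₁,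
      hf₂ u' (Submodule.mem_span_singleton_self u')]
  · rw [hag _ (Submodule.subset_span (by simp)), hg, LinearEquiv.trans_apply, hm₂]

end

end Cfsg.Lib.OrthMinDeg
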