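import Cfsg.Agent.Known.OrthMinDegree.Shape

/-! Invariant subspaces with an abelian group of operators permuted transitively. -/

set_option autoImplicit false
set_option linter.unusedSectionVars false

namespace Cfsg.Lib.OrthMinDeg

open Cfsg.Lib.RepEigen Cfsg.Lib.SLMinDeg

variable {G M : Type*} [Group G] [AddCommGroup M] [Module ℂ M] [FiniteDimensional ℂ M]
  (ρ : G →* Module.End ℂ M) {A : Type*} [AddCommGroup A] [Fintype A] {f : A → G}
  (hf : ∀ a b, f (a + b) = f a * f b) {X : Submodule ℂ M} (hX : ∀ a, ∀ x ∈ X, ρ (f a) x ∈ X)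

include hf hX

theorem sum_finrank_inf : ∑ χ : AddChar A ℂ, Module.finrank ℂ ↥(X ⊓ eig ρ f χ) = Module.finrank ℂ X := by
  classical
  refine le_antisymm (sum_finrank_eig_le ρ hf X) ?_
  let T : (Π χ : AddChar A ℂ, ↥(X ⊓ eig ρ f χ)) →ₗ[ℂ] X :=
    ∑ χ, (Submodule.inclusion inf_le_left).comp (LinearMap.proj χ)
  have hT : Function.Surjective T := fun x =>
    ⟨fun χ => ⟨proj ρ f χ x, Submodule.mem_inf.mpr ⟨proj_mem ρ X hX χ x.2, proj_mem_eig ρ hf χ x⟩⟩, Subtype.ext (by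
      simpa [T] using sum_proj_apply ρ (hom_zero hf) (x : M))⟩
  rw [← Module.finrank_pi_fintype ℂ]
  exact LinearMap.finrank_le_finrank_of_surjective hT

variable {T : Type*} [Fintype T] {g : T → G} (hgX : ∀ t, ∀ x ∈ X, ρ (g t) x ∈ X) {pr : T → AddChar A ℂ}
  (hrel : ∀ t a, ∀ x ∈ X, ρ (f a) (ρ (g t) x) = pr t a • ρ (g t) (ρ (f a) x)) (hpr : Function.Bijective pr)

omit hf hX in
include hgX hrel in
theorem map_piece (t : T) (χ : AddChar A ℂ) {x : M} (hx : x ∈ X ⊓ eig ρ f χ) :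
    ρ (g t) x ∈ X ⊓ eig ρ f (pr t * χ) := by
  refine Submodule.mem_inf.mpr ⟨hgX t x hx.1, (mem_eig ρ).mpr fun a => ?_⟩
  rw [hrel t a x hx.1, (mem_eig ρ).mp hx.2 a, map_smul, smul_smul, AddChar.mul_apply]

omit hf hX in
include hgX hrel hpr in
theorem finrank_piece (χ : AddChar A ℂ) :
    Module.finrank ℂ ↥(X ⊓ eig ρ f χ) = Module.finrank ℂ ↥(X ⊓ eig ρ f 1) := by
  have key : ∀ χ χ' : AddChar A ℂ, Module.finrank ℂ ↥(X ⊓ eig ρ f χ) ≤ Module.finrank ℂ ↥(X ⊓ eig ρ f χ') := by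
    intro χ χ'
    obtain ⟨t, ht⟩ := hpr.2 (χ' * χ⁻¹)
    refine finrank_le_of_map_mem ρ (g := g t) fun x hx => ?_
    have := map_piece ρ hgX hrel t χ hx
    rwa [ht, inv_mul_cancel_right] at this
  exact le_antisymm (key _ _) (key _ _)

include hgX hrel hpr in
/-- The dimension is divisible by the number of shifts. -/
theorem finrank_shift : Module.finrank ℂ X = Fintype.card T * Module.finrank ℂ ↥(X ⊓ eig ρ f 1) := by
  rw [← sum_finrank_inf ρ hf hX, Finset.sum_congr rfl fun χ _ => finrank_piece ρ hgX hrel hpr χ, Finset.sum_const,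
    Finset.card_univ, Fintype.card_of_bijective hpr, smul_eq_mul]

include hgX hrel hpr in
/-- An operator permuting the pieces trivially has as trace the sum of its scalars. -/
theorem span_pieces : X ≤ ⨆ t : T, (X ⊓ eig ρ f 1).map (ρ (g t)) := by
  classical
  intro x hx
  rw [show x = ∑ χ : AddChar A ℂ, proj ρ f χ x from (sum_proj_apply ρ (hom_zero hf) x).symm]
  refine Submodule.sum_mem _ fun χ _ => ?_
  obtain ⟨t, rfl⟩ := hpr.2 χ
  refine Submodule.mem_iSup_of_mem t ?_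
  have hle : (X ⊓ eig ρ f 1).map (ρ (g t)) ≤ X ⊓ eig ρ f (pr t) := by
    rintro _ ⟨y, hy, rfl⟩
    simpa only [mul_one] using map_piece ρ hgX hrel t 1 hy
  have heq : (X ⊓ eig ρ f 1).map (ρ (g t)) = X ⊓ eig ρ f (pr t) := by
    refine Submodule.eq_of_le_of_finrank_eq hle ?_
    rw [← (Submodule.equivMapOfInjective (ρ (g t)) (apply_injective ρ (g t)) _).finrank_eq,
      finrank_piece ρ hgX hrel hpr (pr t)]
  rw [heq]
  exact Submodule.mem_inf.mpr ⟨proj_mem ρ X hX _ hx, proj_mem_eig ρ hf _ x⟩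

end Cfsg.Lib.OrthMinDeg
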