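import Cfsg.Agent.Known.OrthMinDegree.Mixed.Shape
import Cfsg.Agent.Known.SLMinDegree.Line

/-! The action of the stabiliser of a decomposable weight on its weight space. -/

set_option autoImplicit false
set_option linter.unusedSectionVars false
set_option linter.style.haveILetI false

open Matrix Cfsg.Lib.Classical Cfsg.Lib.Classical.Refl Cfsg.Lib.Classical.HypQuad Cfsg.Lib.SLMinDeg
open scoped commutatorElement

namespace Cfsg.Lib.OrthMinDeg

universe u v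

theorem smul_of_line {G M : Type*} [Group G] [AddCommGroup M] [Module ℂ M] (ρ : G →* Module.End ℂ M)
    {X : Submodule ℂ M} (hX : Module.finrank ℂ X = 1) {g : G} (hg : ∀ x ∈ X, ρ g x ∈ X) :
    ∃ c : ℂ, ∀ x ∈ X, ρ g x = c • x := by
  obtain ⟨v, -, hv⟩ := finrank_eq_one_iff'.mp hX
  obtain ⟨c, hc⟩ := hv ⟨_, hg v v.2⟩
  refine ⟨c, fun x hx => ?_⟩
  obtain ⟨d, hd⟩ := hv ⟨x, hx⟩
  have hx' : x = d • (v : M) := (congrArg Subtype.val hd).symm
  have hc' : ρ g (v : M) = c • (v : M) := (congrArg Subtype.val hc).symm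
  rw [hx', map_smul, hc', smul_smul, smul_smul, mul_comm]

variable {F : Type u} [Field F] [Fintype F] {κ : Type} [Fintype κ] [DecidableEq κ]
  (Q0 : QuadraticForm F (κ → F)) (h0 : (QuadraticMap.polarBilin Q0).Nondegenerate)
  {k : ℕ} {M : Type v} [AddCommGroup M] [Module ℂ M] [FiniteDimensional ℂ M] (hn : 3 ≤ k + 1 + 1)
  (ρ : OmM (k + 1 + 1) Q0 →* Module.End ℂ M)

/-- A multiple of the first decomposable functional. -/
noncomputable def La (a : F) : Module.Dual F (AltM F (k + 1 + 1)) := a • luv (Pi.single 0 1) (Pi.single 1 1)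

theorem bf_La (a : F) (p r : Fin (k + 1 + 1) → F) : bf (La (k := k) a) p r = a * (p 0 * r 1 - r 0 * p 1) := by
  rw [bf_apply, La, LinearMap.smul_apply, ← bf_apply, bf_luv, single_dotProduct, single_dotProduct, single_dotProduct,
    single_dotProduct, smul_eq_mul]
  ring

theorem La_comp {a : F} {g : Matrix (Fin (k + 1 + 1)) (Fin (k + 1 + 1)) F}
    (h : (luv (Pi.single 0 1) (Pi.single 1 1) : Module.Dual F (AltM F (k + 1 + 1))).comp (cg g) =
      luv (Pi.single 0 1) (Pi.single 1 1)) : (La a).comp (cg g) = La a := by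
  rw [La, LinearMap.smul_comp, h]

theorem luv_comp_tv {u φ : Fin (k + 1 + 1) → F} (h : φ ⬝ᵥ u = 0) (h0' : u 0 = 0) (h1 : u 1 = 0) :
    (luv (Pi.single 0 1) (Pi.single 1 1) : Module.Dual F (AltM F (k + 1 + 1))).comp
      (cg (tv u φ h : Matrix (Fin (k + 1 + 1)) (Fin (k + 1 + 1)) F)) =
      luv (Pi.single 0 1) (Pi.single 1 1) := by
  rw [luv_comp, coe_tv, vecMul_add, vecMul_add, vecMul_one, vecMul_one, vecMul_vecMulVec, vecMul_vecMulVec,
    single_dotProduct, single_dotProduct, h0', h1, mul_zero, zero_smul, add_zero, add_zero]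

/-- The weight space. -/
noncomputable def VV (a : F) : Submodule ℂ M := Eg hn (rhoP Q0 ρ) (La a)

/-- Its line fixed by the radical elements of the second vector. -/
noncomputable def VL (a : F) : Submodule ℂ M :=
  VV Q0 hn ρ a ⊓ RepEigen.eig ρ (uM Q0 h0 hn (Pi.single 1 1)) (1 : AddChar (κ → F) ℂ)

theorem lvM_map_V {a : F} (g : Matrix.SpecialLinearGroup (Fin (k + 1 + 1)) F)
    (hg : (luv (Pi.single 0 1) (Pi.single 1 1) : Module.Dual F (AltM F (k + 1 + 1))).comp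
      (cg (g : Matrix (Fin (k + 1 + 1)) (Fin (k + 1 + 1)) F)) = luv (Pi.single 0 1) (Pi.single 1 1))
    {x : M} (hx : x ∈ VV Q0 hn ρ a) : ρ (lvM Q0 hn g) x ∈ VV Q0 hn ρ a := by
  refine map_Eg hn (rhoP Q0 ρ) (Matrix.SpecialLinearGroup.toGL g) (lvI_mem hn g) (La a) (x := x) ?_
  show x ∈ Eg hn (rhoP Q0 ρ) ((La a).comp (cg (g : Matrix (Fin (k + 1 + 1)) (Fin (k + 1 + 1)) F)))
  rw [La_comp hg]; exact hx

variable (hdec : ∀ L : Module.Dual F (AltM F (k + 1 + 1)), Dec L →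
  Module.finrank ℂ (Eg hn (rhoP Q0 ρ) L) = RR F κ) {a : F} (ha : a ≠ 0)

include hdec ha in
theorem finrank_VV : Module.finrank ℂ (VV Q0 hn ρ a) = RR F κ := hdec _ (dec_first.smul ha)

omit hdec in
include ha in
theorem bf_La_01 : bf (La (k := k) a) (Pi.single 0 1) (Pi.single 1 1) ≠ 0 ∧
    bf (La (k := k) a) (Pi.single 1 1) (Pi.single 0 1) ≠ 0 := by
  constructor <;> rw [bf_La] <;> simp [ha]

include hdec ha in
theorem finrank_VL : Module.finrank ℂ (VL Q0 h0 hn ρ a) = 1 := by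
  classical
  have h := finrank_heis Q0 h0 hn ρ (L := La a) (bf_La_01 (k := k) ha).2 (X := VV Q0 hn ρ a) le_rfl
    (fun w x hx => uM_map_Eg Q0 h0 hn ρ _ w hx) (fun w x hx => uM_map_Eg Q0 h0 hn ρ _ w hx)
  rw [finrank_VV Q0 hn ρ hdec ha] at h
  have hR : 0 < RR F κ := pow_pos Fintype.card_pos _
  exact (mul_right_eq_self₀.mp h.symm).resolve_right hR.ne'

include hdec ha in
/-- The weight space is spanned by the translates of the line. -/
theorem VV_ind {P : M → Prop} (hP0 : P 0) (hadd : ∀ x y, P x → P y → P (x + y))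
    (hgen : ∀ t, ∀ v ∈ VL Q0 h0 hn ρ a, P (ρ (uM Q0 h0 hn (Pi.single 0 1) t) v)) {x : M}
    (hx : x ∈ VV Q0 hn ρ a) : P x := by
  classical
  have hs := span_pieces ρ (f := uM Q0 h0 hn (Pi.single 1 1)) (uM_add_right Q0 h0 hn _)
    (X := VV Q0 hn ρ a) (fun w x hx => uM_map_Eg Q0 h0 hn ρ _ w hx)
    (g := uM Q0 h0 hn (Pi.single 0 1)) (fun w x hx => uM_map_Eg Q0 h0 hn ρ _ w hx)
    (pr := prW Q0 (bf (La (k := k) a) (Pi.single 1 1) (Pi.single 0 1)))
    (fun w' w x hx => uM_rel Q0 h0 hn ρ _ _ w w' hx) (prW_bijective Q0 h0 (bf_La_01 (k := k) ha).2) hx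
  clear hx
  induction hs using Submodule.iSup_induction' with
  | mem t y hy => obtain ⟨v, hv, rfl⟩ := hy; exact hgen t v hv
  | zero => exact hP0
  | add y z _ _ hy hz => exact hadd y z hy hz

include hdec ha in
/-- An element commuting with both generators of the radical acts as a scalar. -/
theorem scalar_of_comm {g : OmM (k + 1 + 1) Q0} (hgV : ∀ x ∈ VV Q0 hn ρ a, ρ g x ∈ VV Q0 hn ρ a)
    (h1 : ∀ w, ∀ x ∈ VV Q0 hn ρ a, ρ g (ρ (uM Q0 h0 hn (Pi.single 1 1) w) x) =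
      ρ (uM Q0 h0 hn (Pi.single 1 1) w) (ρ g x))
    (h2 : ∀ w, ∀ x ∈ VV Q0 hn ρ a, ρ g (ρ (uM Q0 h0 hn (Pi.single 0 1) w) x) =
      ρ (uM Q0 h0 hn (Pi.single 0 1) w) (ρ g x)) :
    ∃ c : ℂ, ∀ x ∈ VV Q0 hn ρ a, ρ g x = c • x := by
  obtain ⟨c, hc⟩ := smul_of_line ρ (finrank_VL Q0 h0 hn ρ hdec ha) (g := g) fun x hx =>
    Submodule.mem_inf.mpr ⟨hgV x hx.1, (RepEigen.mem_eig ρ).mpr fun w => by
      rw [← h1 w x hx.1, (RepEigen.mem_eig ρ).mp hx.2 w, map_smul]⟩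
  refine ⟨c, fun x hx => VV_ind Q0 h0 hn ρ hdec ha (P := fun x => ρ g x = c • x) (by simp)
    (fun x y hx hy => by rw [map_add, hx, hy, smul_add]) (fun t v hv => ?_) hx⟩
  rw [h2 t v hv.1, hc v hv, map_smul]

/-- The elements acting trivially on the weight space. -/
noncomputable def KV (a : F) : Subgroup (OmM (k + 1 + 1) Q0) :=
  fixSub ρ (VV Q0 hn ρ a : Set M)

theorem comm_scalar {g h : OmM (k + 1 + 1) Q0} {c : ℂ} (hg : ∀ x ∈ VV Q0 hn ρ a, ρ g x = c • x)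
    (hh : ∀ x ∈ VV Q0 hn ρ a, ρ h x ∈ VV Q0 hn ρ a) (hh' : ∀ x ∈ VV Q0 hn ρ a, ρ h⁻¹ x ∈ VV Q0 hn ρ a) :
    ⁅g, h⁆ ∈ KV Q0 hn ρ a := by
  intro x hx
  by_cases hc : c = 0
  · have : x = 0 := apply_injective ρ g (by rw [hg x hx, hc, zero_smul, map_zero])
    rw [this, map_zero]
  have hgi : ∀ y ∈ VV Q0 hn ρ a, ρ g⁻¹ y = c⁻¹ • y := fun y hy => apply_injective ρ g (by
    rw [← Module.End.mul_apply, ← map_mul, mul_inv_cancel, map_one, Module.End.one_apply, map_smul, hg y hy,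
      smul_smul, inv_mul_cancel₀ hc, one_smul])
  have h1 := hh' x hx
  rw [commutatorElement_def, map_mul, map_mul, map_mul, Module.End.mul_apply, Module.End.mul_apply,
    Module.End.mul_apply, hgi _ h1, map_smul, ← Module.End.mul_apply (ρ h), ← map_mul, mul_inv_cancel, map_one,
    Module.End.one_apply, map_smul, hg x hx, smul_smul, inv_mul_cancel₀ hc, one_smul]

include hdec ha in
theorem uM_rad_scalar {b : Fin (k + 1 + 1) → F} (hb0 : b 0 = 0) (hb1 : b 1 = 0) (w : κ → F) :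
    ∃ c : ℂ, ∀ x ∈ VV Q0 hn ρ a, ρ (uM Q0 h0 hn b w) x = c • x := by
  refine scalar_of_comm Q0 h0 hn ρ hdec ha (fun x hx => uM_map_Eg Q0 h0 hn ρ _ w hx) ?_ ?_ <;> intro w' x hx <;>
    rw [uM_rel Q0 h0 hn ρ _ _ w w' hx, bf_La] <;>
    simp [hb0, hb1]

/-- The radical of the weight acts trivially. -/
def Triv (a : F) : Prop :=
  ∀ j : Fin (k + 1 + 1), j ≠ 0 → j ≠ 1 → ∀ w, uM Q0 h0 hn (Pi.single j 1) w ∈ KV Q0 hn ρ a

theorem xM_scalar (A : AltM F (k + 1 + 1)) {x : M} (hx : x ∈ VV Q0 hn ρ a) :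
    ρ (xM Q0 hn A) x = psi0 (La a A) • x := (mem_EgM Q0 hn ρ).mp hx A

theorem uM_conj_V {g : OmM (k + 1 + 1) Q0} {p q : Fin (k + 1 + 1) → F} {w : κ → F}
    (hg : g * uM Q0 h0 hn p w * g⁻¹ = uM Q0 h0 hn (p + q) w) {x : M} (hgx : ρ g x ∈ VV Q0 hn ρ a) :
    ρ g (ρ (uM Q0 h0 hn p w) x) =
      psi0 (a * (Q0 w * (p 0 * q 1 - q 0 * p 1))) •
        ρ (uM Q0 h0 hn p w) (ρ (uM Q0 h0 hn q w) (ρ g x)) := by
  rw [mul_inv_eq_iff_eq_mul] at hg
  rw [← Module.End.mul_apply, ← map_mul, hg, uM_add_left, map_mul, map_mul, map_mul, Module.End.mul_apply,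
    Module.End.mul_apply, Module.End.mul_apply,
    xM_scalar Q0 hn ρ _ (uM_map_Eg Q0 h0 hn ρ p w (uM_map_Eg Q0 h0 hn ρ q w hgx)), map_smul, ← bf_apply, bf_La,
    smul_eq_mul]
  congr 2
  ring

include hdec ha in
/-- A third coordinate makes the radical act trivially. -/
theorem triv_of_two (hk : 2 ≤ k) : Triv Q0 h0 hn ρ a := by
  intro j hj0 hj1 w x hx
  obtain ⟨l, hl0, hl1, hlj⟩ : ∃ l : Fin (k + 1 + 1), l ≠ 0 ∧ l ≠ 1 ∧ l ≠ j := by
    by_cases h2 : (j : ℕ) = 2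
    · exact ⟨⟨3, by omega⟩, by simp [Fin.ext_iff], by simp [Fin.ext_iff], by simp [Fin.ext_iff, h2]⟩
    · exact ⟨⟨2, by omega⟩, by simp [Fin.ext_iff], by simp [Fin.ext_iff], by simp [Fin.ext_iff]; omega⟩
  set T : Matrix.SpecialLinearGroup (Fin (k + 1 + 1)) F := Matrix.SpecialLinearGroup.transvection hlj.symm 1
  have hT : (luv (Pi.single 0 1) (Pi.single 1 1) : Module.Dual F (AltM F (k + 1 + 1))).comp
      (cg (T : Matrix (Fin (k + 1 + 1)) (Fin (k + 1 + 1)) F)) = luv (Pi.single 0 1) (Pi.single 1 1) := by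
    rw [luv_comp, vecMul_transvection, vecMul_transvection, Pi.single_eq_of_ne hj0, Pi.single_eq_of_ne hj1, zero_mul,
      Pi.single_zero, add_zero, add_zero]
  obtain ⟨c, hc⟩ := uM_rad_scalar Q0 h0 hn ρ hdec ha (b := Pi.single l 1) (Pi.single_eq_of_ne hl0.symm _)
    (Pi.single_eq_of_ne hl1.symm _) w
  have hmap : ∀ y ∈ VV Q0 hn ρ a, ρ (lvM Q0 hn T) y ∈ VV Q0 hn ρ a := fun y hy => lvM_map_V Q0 hn ρ T hT hy
  obtain ⟨y, hy, rfl⟩ : ∃ y ∈ VV Q0 hn ρ a, ρ (lvM Q0 hn T) y = x := by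
    refine ⟨ρ (lvM Q0 hn T)⁻¹ x, ?_, by rw [← Module.End.mul_apply, ← map_mul, mul_inv_cancel, map_one]; rfl⟩
    rw [← map_inv]
    refine lvM_map_V Q0 hn ρ _ ?_ hx
    conv_lhs => rw [← hT, comp_cg_mul, ← Matrix.SpecialLinearGroup.coe_mul, mul_inv_cancel,
      Matrix.SpecialLinearGroup.coe_one, comp_cg_one]
  have h := uM_conj_V Q0 h0 hn ρ (g := lvM Q0 hn T) (p := Pi.single l 1) (q := Pi.single j 1) (w := w) (by
      rw [lvM_conj_u, mulVec_transvection, Pi.single_eq_same, mul_one]) (hmap y hy)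
  rw [Pi.single_eq_of_ne hl0.symm, Pi.single_eq_of_ne hj0.symm, zero_mul, zero_mul, sub_zero, mul_zero, mul_zero,
    AddChar.map_zero_eq_one, one_smul, hc y hy, map_smul] at h
  have h' := hc _ (uM_map_Eg Q0 h0 hn ρ (Pi.single j 1) w (hmap y hy))
  rw [h'] at h
  by_cases hc0 : c = 0
  · have : y = 0 := apply_injective ρ (uM Q0 h0 hn (Pi.single l 1) w) (by rw [hc y hy, hc0, zero_smul, map_zero])
    rw [this, map_zero, map_zero]
  exact (smul_right_injective M hc0 h).symm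

include hdec ha in
/-- An element scaling the radical makes it act trivially. -/
theorem triv_of_scale (hsc : ∀ j : Fin (k + 1 + 1), j ≠ 0 → j ≠ 1 → ∀ w, ∃ g : OmM (k + 1 + 1) Q0, ∃ v,
    (∀ x ∈ VV Q0 hn ρ a, ρ g x ∈ VV Q0 hn ρ a) ∧
    g * uM Q0 h0 hn (Pi.single j 1) v * g⁻¹ = uM Q0 h0 hn (Pi.single j 1) (v + w)) : Triv Q0 h0 hn ρ a := by
  intro j hj0 hj1 w x hx
  obtain ⟨g, v, hgV, hg⟩ := hsc j hj0 hj1 w
  obtain ⟨c, hc⟩ := uM_rad_scalar Q0 h0 hn ρ hdec ha (b := Pi.single j 1) (Pi.single_eq_of_ne hj0.symm _)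
    (Pi.single_eq_of_ne hj1.symm _) v
  have hgi : ∀ y ∈ VV Q0 hn ρ a, ∃ z ∈ VV Q0 hn ρ a, ρ g z = y := by
    intro y hy
    have hmap : (VV Q0 hn ρ a).map (ρ g) = VV Q0 hn ρ a := by
      refine Submodule.eq_of_le_of_finrank_eq (by rintro _ ⟨z, hz, rfl⟩; exact hgV z hz) ?_
      exact ((Submodule.equivMapOfInjective (ρ g) (apply_injective ρ g) _).finrank_eq).symm
    rw [← hmap] at hy
    exact Submodule.mem_map.mp hy
  obtain ⟨z, hz, rfl⟩ := hgi x hx
  rw [mul_inv_eq_iff_eq_mul, uM_add_right] at hg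
  have h1 := congrArg (fun T => ρ T z) hg
  simp only [map_mul, Module.End.mul_apply] at h1
  rw [hc z hz, map_smul, hc _ (uM_map_Eg Q0 h0 hn ρ _ w (hgV z hz))] at h1
  by_cases hc0 : c = 0
  · have : z = 0 := apply_injective ρ (uM Q0 h0 hn (Pi.single j 1) v) (by rw [hc z hz, hc0, zero_smul, map_zero])
    rw [this, map_zero, map_zero]
  exact (smul_right_injective M hc0 h1).symm

variable (htriv : Triv Q0 h0 hn ρ a)

include htriv in
theorem uM_rad_mem {b : Fin (k + 1 + 1) → F} (hb0 : b 0 = 0) (hb1 : b 1 = 0) (w : κ → F) :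
    uM Q0 h0 hn b w ∈ KV Q0 hn ρ a := by
  classical
  have h00 : ∀ w, uM Q0 h0 hn 0 w ∈ KV Q0 hn ρ a := fun w => by
    rw [← zero_smul F (0 : Fin (k + 1 + 1) → F), uM_smul_left, zero_smul]
    have h := uM_add_right Q0 h0 hn (0 : Fin (k + 1 + 1) → F) 0 0
    rw [add_zero] at h
    rw [left_eq_mul.mp h]; exact one_mem _
  suffices ∀ s : Finset (Fin (k + 1 + 1)), uM Q0 h0 hn (∑ i ∈ s, Pi.single i (b i)) w ∈ KV Q0 hn ρ a ∧
      (∑ i ∈ s, Pi.single i (b i) : Fin (k + 1 + 1) → F) 0 = 0 ∧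
      (∑ i ∈ s, Pi.single i (b i) : Fin (k + 1 + 1) → F) 1 = 0 by
    have := (this Finset.univ).1
    rwa [Finset.univ_sum_single] at this
  intro s
  induction s using Finset.induction with
  | empty => rw [Finset.sum_empty]; exact ⟨h00 w, rfl, rfl⟩
  | insert i s hi ih =>
    rw [Finset.sum_insert hi]
    have e0 : (Pi.single i (b i) : Fin (k + 1 + 1) → F) 0 = 0 := by
      by_cases h : i = 0
      · subst h; simp [hb0]
      · exact Pi.single_eq_of_ne (Ne.symm h) _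
    have e1 : (Pi.single i (b i) : Fin (k + 1 + 1) → F) 1 = 0 := by
      by_cases h : i = 1
      · subst h; simp [hb1]
      · exact Pi.single_eq_of_ne (Ne.symm h) _
    refine ⟨?_, by rw [Pi.add_apply, e0, ih.2.1, add_zero], by rw [Pi.add_apply, e1, ih.2.2, add_zero]⟩
    rw [uM_add_left]
    refine mul_mem (fun x hx => ?_) (mul_mem ?_ ih.1)
    · rw [xM_scalar Q0 hn ρ _ hx, map_smul, ← bf_apply, bf_La, e0, e1, ih.2.1]
      simp
    · by_cases h : i = 0 ∨ i = 1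
      · have : b i = 0 := by rcases h with rfl | rfl <;> assumption
        rw [this, Pi.single_zero]; exact h00 w
      · push Not at h
        rw [show (Pi.single i (b i) : Fin (k + 1 + 1) → F) = b i • Pi.single i 1 by
          rw [← Pi.single_smul, smul_eq_mul, mul_one], uM_smul_left]
        exact htriv i h.1 h.2 _

include hdec ha htriv in
/-- A transvection moving the weight's radical is a scalar. -/
theorem tv_scalar {g : Matrix.SpecialLinearGroup (Fin (k + 1 + 1)) F}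
    (hg : (luv (Pi.single 0 1) (Pi.single 1 1) : Module.Dual F (AltM F (k + 1 + 1))).comp
      (cg (g : Matrix (Fin (k + 1 + 1)) (Fin (k + 1 + 1)) F)) = luv (Pi.single 0 1) (Pi.single 1 1))
    (h : ∀ p : Fin (k + 1 + 1), p = 0 ∨ p = 1 →
      ((g : Matrix (Fin (k + 1 + 1)) (Fin (k + 1 + 1)) F) *ᵥ (Pi.single p 1 : Fin (k + 1 + 1) → F) -
          (Pi.single p 1 : Fin (k + 1 + 1) → F)) 0 = 0 ∧
      ((g : Matrix (Fin (k + 1 + 1)) (Fin (k + 1 + 1)) F) *ᵥ (Pi.single p 1 : Fin (k + 1 + 1) → F) -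
          (Pi.single p 1 : Fin (k + 1 + 1) → F)) 1 = 0) :
    ∃ c : ℂ, ∀ x ∈ VV Q0 hn ρ a, ρ (lvM Q0 hn g) x = c • x := by
  have key : ∀ p : Fin (k + 1 + 1), p = 0 ∨ p = 1 → ∀ w, ∀ x ∈ VV Q0 hn ρ a,
      ρ (lvM Q0 hn g) (ρ (uM Q0 h0 hn (Pi.single p 1) w) x) =
        ρ (uM Q0 h0 hn (Pi.single p 1) w) (ρ (lvM Q0 hn g) x) := by
    intro p hp w x hx
    rw [uM_conj_V Q0 h0 hn ρ (q := (g : Matrix (Fin (k + 1 + 1)) (Fin (k + 1 + 1)) F) *ᵥ Pi.single p 1 - Pi.single p 1)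
      (by rw [lvM_conj_u, add_sub_cancel]) (lvM_map_V Q0 hn ρ g hg hx), (h p hp).1, (h p hp).2, zero_mul, mul_zero,
      sub_zero, mul_zero, mul_zero, AddChar.map_zero_eq_one, one_smul,
      uM_rad_mem Q0 h0 hn ρ htriv (h p hp).1 (h p hp).2 w _ (lvM_map_V Q0 hn ρ g hg hx)]
  exact scalar_of_comm Q0 h0 hn ρ hdec ha (fun x hx => lvM_map_V Q0 hn ρ g hg hx)
    (key 1 (Or.inr rfl)) (key 0 (Or.inl rfl))

include hdec ha htriv in
theorem transvection_hom_mem {j i : Fin (k + 1 + 1)} (hji : j ≠ i) (hj0 : j ≠ 0) (hj1 : j ≠ 1) (hi : i = 0 ∨ i = 1)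
    (c : F) : lvM Q0 hn (Matrix.SpecialLinearGroup.transvection hji c) ∈ KV Q0 hn ρ a := by
  obtain ⟨l, hl, hli, hjl⟩ : ∃ l : Fin (k + 1 + 1), (l = 0 ∨ l = 1) ∧ l ≠ i ∧ j ≠ l := by
    rcases hi with rfl | rfl
    · exact ⟨1, Or.inr rfl, by simp, hj1⟩
    · exact ⟨0, Or.inl rfl, by simp, hj0⟩
  rw [← Cfsg.Lib.Classical.transvection_commutator hjl hli hji c, map_commutatorElement]
  have hg : (luv (Pi.single 0 1) (Pi.single 1 1) : Module.Dual F (AltM F (k + 1 + 1))).comp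
      (cg ((Matrix.SpecialLinearGroup.transvection hjl c : Matrix.SpecialLinearGroup (Fin (k + 1 + 1)) F) :
        Matrix (Fin (k + 1 + 1)) (Fin (k + 1 + 1)) F)) = luv (Pi.single 0 1) (Pi.single 1 1) := by
    rw [luv_comp, vecMul_transvection, vecMul_transvection, Pi.single_eq_of_ne hj0, Pi.single_eq_of_ne hj1, zero_mul,
      Pi.single_zero, add_zero, add_zero]
  obtain ⟨s, hs⟩ := tv_scalar Q0 h0 hn ρ hdec ha htriv hg fun p _ => by
    rw [mulVec_transvection, add_sub_cancel_left]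
    exact ⟨Pi.single_eq_of_ne hj0.symm _, Pi.single_eq_of_ne hj1.symm _⟩
  have hh : ∀ d : F, (luv (Pi.single 0 1) (Pi.single 1 1) : Module.Dual F (AltM F (k + 1 + 1))).comp
      (cg ((Matrix.SpecialLinearGroup.transvection hli d : Matrix.SpecialLinearGroup (Fin (k + 1 + 1)) F) :
        Matrix (Fin (k + 1 + 1)) (Fin (k + 1 + 1)) F)) = luv (Pi.single 0 1) (Pi.single 1 1) := fun d => by
    rw [luv_comp, vecMul_transvection, vecMul_transvection]
    rcases hl with rfl | rfl <;> rcases hi with rfl | rfl <;> try exact absurd rfl hli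
    · rw [Pi.single_eq_same, Pi.single_eq_of_ne (by simp), one_mul, zero_mul, Pi.single_zero, add_zero,
        show (Pi.single 1 d : Fin (k + 1 + 1) → F) = d • Pi.single 1 1 by rw [← Pi.single_smul, smul_eq_mul, mul_one]]
      simpa using luv_comb (Pi.single 0 (1 : F) : Fin (k + 1 + 1) → F) (Pi.single 1 1) 1 d 0 1
    · rw [Pi.single_eq_same, Pi.single_eq_of_ne (by simp), one_mul, zero_mul, Pi.single_zero, add_zero,
        show (Pi.single 0 d : Fin (k + 1 + 1) → F) = d • Pi.single 0 1 by rw [← Pi.single_smul, smul_eq_mul, mul_one]]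
      refine (congrArg (luv _) (add_comm _ _)).trans ?_
      simpa using luv_comb (Pi.single 0 (1 : F) : Fin (k + 1 + 1) → F) (Pi.single 1 1) 1 0 d 1
  refine comm_scalar Q0 hn ρ hs (fun x hx => lvM_map_V Q0 hn ρ _ (hh 1) hx) fun x hx => ?_
  rw [← map_inv, Matrix.SpecialLinearGroup.transvection_inv]
  exact lvM_map_V Q0 hn ρ _ (hh (-1)) hx

end Cfsg.Lib.OrthMinDeg
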