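import Cfsg.Agent.Known.OrthMinDegree.Mixed.Heis

/-! Traces of elements against the projections of an abelian family of operators. -/

set_option autoImplicit false
set_option linter.unusedSectionVars false

namespace Cfsg.Lib.OrthMinDeg

open Cfsg.Lib.RepEigen Cfsg.Lib.SLMinDeg

variable {G M : Type*} [Group G] [AddCommGroup M] [Module ℂ M] [FiniteDimensional ℂ M]
  (ρ : G →* Module.End ℂ M) {A : Type*} [AddCommGroup A] [Fintype A] {f : A → G}
  (hf : ∀ a b, f (a + b) = f a * f b)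

/-- The trace of an element on the part belonging to a character. -/
noncomputable def trP (f : A → G) (g : G) (χ : AddChar A ℂ) : ℂ := LinearMap.trace ℂ M (ρ g * proj ρ f χ)

/-- The pullback of a character by an automorphism of the parameters. -/
def chiPull (θ : A ≃+ A) (χ : AddChar A ℂ) : AddChar A ℂ := χ.compAddMonoidHom θ.toAddMonoidHom

theorem chiPull_apply (θ : A ≃+ A) (χ : AddChar A ℂ) (a : A) : chiPull θ χ a = χ (θ a) := rfl

include hf

theorem proj_mul_proj (χ : AddChar A ℂ) : proj ρ f χ * proj ρ f χ = proj ρ f χ := by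
  classical
  refine LinearMap.ext fun x => ?_
  rw [Module.End.mul_apply, proj_apply_eig ρ hf (proj_mem_eig ρ hf χ x), if_pos rfl]

theorem proj_mul_proj_ne {χ χ' : AddChar A ℂ} (h : χ ≠ χ') : proj ρ f χ * proj ρ f χ' = 0 := by
  classical
  refine LinearMap.ext fun x => ?_
  rw [Module.End.mul_apply, proj_apply_eig ρ hf (proj_mem_eig ρ hf χ' x), if_neg h]; rfl

theorem trace_eq_sum_trP (g : G) : LinearMap.trace ℂ M (ρ g) = ∑ χ, trP ρ f g χ := by
  simp only [trP]
  rw [← map_sum, ← Finset.mul_sum]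
  congr 1
  refine LinearMap.ext fun x => ?_
  rw [Module.End.mul_apply, LinearMap.sum_apply, sum_proj_apply ρ (hom_zero hf)]

theorem trace_proj (χ : AddChar A ℂ) : LinearMap.trace ℂ M (proj ρ f χ) = (Module.finrank ℂ (eig ρ f χ) : ℂ) := by
  classical
  have h : LinearMap.IsProj (eig ρ f χ) (proj ρ f χ) :=
    ⟨proj_mem_eig ρ hf χ, fun x hx => by rw [proj_apply_eig ρ hf hx, if_pos rfl]⟩
  exact h.trace

theorem trP_scalar {g : G} {c : ℂ} {χ : AddChar A ℂ} (h : ∀ x ∈ eig ρ f χ, ρ g x = c • x) :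
    trP ρ f g χ = c * (Module.finrank ℂ (eig ρ f χ) : ℂ) := by
  rw [trP, ← trace_proj ρ hf χ, ← smul_eq_mul (a := c), ← map_smul]
  congr 1
  refine LinearMap.ext fun x => ?_
  rw [Module.End.mul_apply, LinearMap.smul_apply, h _ (proj_mem_eig ρ hf χ x)]

omit hf

variable {g : G} (θ : A ≃+ A) (hg : ∀ a, g * f a * g⁻¹ = f (θ a))

include hg

theorem proj_comm (χ : AddChar A ℂ) : ρ g * proj ρ f (chiPull θ χ) = proj ρ f χ * ρ g := by
  have e : ∀ a, ρ g * ρ (f a) = ρ (f (θ a)) * ρ g := fun a => by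
    rw [← map_mul, ← map_mul, ← hg]; congr 1; group
  simp only [proj, mul_smul_comm, smul_mul_assoc, Finset.mul_sum, Finset.sum_mul, chiPull_apply, map_neg, e]
  congr 1
  exact Fintype.sum_equiv θ.toEquiv _ _ fun a => rfl

include hf in
/-- A character moved by the element contributes nothing. -/
theorem trP_eq_zero {χ : AddChar A ℂ} (hχ : chiPull θ χ ≠ χ) : trP ρ f g χ = 0 := by
  have h1 : trP ρ f g χ = LinearMap.trace ℂ M ((proj ρ f χ * ρ g) * proj ρ f χ) := by
    rw [trP, ← proj_mul_proj ρ hf χ, ← mul_assoc, LinearMap.trace_mul_comm, proj_mul_proj ρ hf χ, ← mul_assoc]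
  rw [h1, ← proj_comm ρ θ hg, mul_assoc, proj_mul_proj_ne ρ hf hχ, mul_zero, map_zero]

omit hg

/-- Conjugation permutes the parts. -/
theorem trP_conj {c : G} (hc : ∀ a, c * f a * c⁻¹ = f (θ a)) (g : G) (χ : AddChar A ℂ) :
    trP ρ f (c * g * c⁻¹) χ = trP ρ f g (chiPull θ χ) := by
  simp only [trP, map_mul]
  calc LinearMap.trace ℂ M (ρ c * ρ g * ρ c⁻¹ * proj ρ f χ)
      = LinearMap.trace ℂ M (ρ c * (ρ g * ρ c⁻¹ * proj ρ f χ)) := by simp only [mul_assoc]
    _ = LinearMap.trace ℂ M (ρ g * ρ c⁻¹ * (proj ρ f χ * ρ c)) := by rw [LinearMap.trace_mul_comm, mul_assoc]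
    _ = LinearMap.trace ℂ M (ρ g * ((ρ c⁻¹ * ρ c) * proj ρ f (chiPull θ χ))) := by
        rw [← proj_comm ρ θ hc]; simp only [mul_assoc]
    _ = _ := by rw [← map_mul, inv_mul_cancel, map_one, one_mul]

section Two

variable {B : Type*} [AddCommGroup B] [Fintype B] {f' : B → G} (hf' : ∀ a b, f' (a + b) = f' a * f' b)
  (hc : ∀ a b, f a * f' b = f' b * f a)

omit θ

include hf hf' hc

theorem isProj_two (χ : AddChar A ℂ) (χ' : AddChar B ℂ) :
    LinearMap.IsProj (eig ρ f χ ⊓ eig ρ f' χ') (proj ρ f χ * proj ρ f' χ') := by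
  classical
  refine ⟨fun x => Submodule.mem_inf.mpr ⟨proj_mem_eig ρ hf χ _, ?_⟩, fun x hx => ?_⟩
  · refine proj_mem ρ (eig ρ f' χ') (fun a y hy => (mem_eig ρ).mpr fun b => ?_) χ (proj_mem_eig ρ hf' χ' x)
    rw [← Module.End.mul_apply, ← map_mul, ← hc, map_mul, Module.End.mul_apply, (mem_eig ρ).mp hy b, map_smul]
  · rw [Module.End.mul_apply, proj_apply_eig ρ hf' hx.2, if_pos rfl, proj_apply_eig ρ hf hx.1, if_pos rfl]

/-- Refinement by a second family. -/
theorem trP_refine (g : G) (χ : AddChar A ℂ) {c : AddChar B ℂ → ℂ}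
    (h : ∀ χ', ∀ x ∈ eig ρ f χ ⊓ eig ρ f' χ', ρ g x = c χ' • x) :
    trP ρ f g χ = ∑ χ', c χ' * (Module.finrank ℂ ↥(eig ρ f χ ⊓ eig ρ f' χ') : ℂ) := by
  have e : proj ρ f χ = ∑ χ' : AddChar B ℂ, proj ρ f χ * proj ρ f' χ' := by
    rw [← Finset.mul_sum]
    refine LinearMap.ext fun x => ?_
    rw [Module.End.mul_apply, LinearMap.sum_apply, sum_proj_apply ρ (hom_zero hf')]
  rw [trP, e, Finset.mul_sum, map_sum]
  refine Finset.sum_congr rfl fun χ' _ => ?_
  rw [← (isProj_two ρ hf hf' hc χ χ').trace, ← smul_eq_mul (a := c χ'), ← map_smul]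
  congr 1
  refine LinearMap.ext fun x => ?_
  rw [Module.End.mul_apply, LinearMap.smul_apply, h χ' _ ((isProj_two ρ hf hf' hc χ χ').map_mem x)]

/-- Refinement by a family permuted with only the trivial character fixed. -/
theorem trP_refine_perm (g : G) (hgf : ∀ a, g * f a * g⁻¹ = f a) (θ : B ≃+ B) (hgf' : ∀ b, g * f' b * g⁻¹ = f' (θ b))
    (hθ : ∀ χ' : AddChar B ℂ, chiPull θ χ' = χ' → χ' = 1) (χ : AddChar A ℂ) :
    trP ρ f g χ = LinearMap.trace ℂ M (ρ g * (proj ρ f χ * proj ρ f' 1)) := by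
  classical
  have e : proj ρ f χ = ∑ χ' : AddChar B ℂ, proj ρ f χ * proj ρ f' χ' := by
    rw [← Finset.mul_sum]
    refine LinearMap.ext fun x => ?_
    rw [Module.End.mul_apply, LinearMap.sum_apply, sum_proj_apply ρ (hom_zero hf')]
  have hcf : ρ g * proj ρ f χ = proj ρ f χ * ρ g := by
    have h := proj_comm ρ (AddEquiv.refl A) (g := g) hgf χ
    rwa [show chiPull (AddEquiv.refl A) χ = χ from rfl] at h
  have hcom : ∀ χ', proj ρ f χ * proj ρ f' χ' = proj ρ f' χ' * proj ρ f χ := fun χ' => by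
    simp only [proj, smul_mul_assoc, mul_smul_comm, Finset.mul_sum, Finset.sum_mul, smul_smul, Finset.smul_sum,
      ← map_mul, hc]
    rw [Finset.sum_comm]
    exact Finset.sum_congr rfl fun b _ => Finset.sum_congr rfl fun a _ => by congr 1; ring
  rw [trP, e, Finset.mul_sum, map_sum, ← e]
  refine Finset.sum_eq_single 1 (fun χ' _ hne => ?_) (fun h => absurd (Finset.mem_univ _) h)
  calc LinearMap.trace ℂ M (ρ g * (proj ρ f χ * proj ρ f' χ'))
      = LinearMap.trace ℂ M ((ρ g * proj ρ f χ * proj ρ f' χ') * proj ρ f' χ') := by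
        simp only [mul_assoc, proj_mul_proj ρ hf']
    _ = LinearMap.trace ℂ M (proj ρ f' χ' * (ρ g * proj ρ f χ * proj ρ f' χ')) := LinearMap.trace_mul_comm _ _ _
    _ = LinearMap.trace ℂ M (ρ g * (proj ρ f' (chiPull θ χ') * proj ρ f' χ') * proj ρ f χ) := by
        rw [← mul_assoc (ρ g), proj_comm ρ θ hgf' χ']
        simp only [mul_assoc, hcom χ']
    _ = 0 := by
        rw [proj_mul_proj_ne ρ hf' (fun h => hne (hθ χ' h)), mul_zero, zero_mul, map_zero]

end Two

end Cfsg.Lib.OrthMinDeg
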