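import Cfsg.Agent.Known.OrthMinDegree.Mixed.Line
import Cfsg.Agent.Known.OrthMinDegree.Mixed.Perm

/-! Transvections on the weight space of the first decomposable functional. -/

set_option autoImplicit false
set_option linter.unusedSectionVars false
set_option linter.style.haveILetI false

open Matrix Cfsg.Lib.Classical Cfsg.Lib.Classical.Refl Cfsg.Lib.Classical.HypQuad Cfsg.Lib.SLMinDeg
open scoped commutatorElement

namespace Cfsg.Lib.OrthMinDeg

universe u v

variable {F : Type u} [Field F] [Fintype F] {κ : Type} [Fintype κ] [DecidableEq κ]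
  (Q0 : QuadraticForm F (κ → F)) (h0 : (QuadraticMap.polarBilin Q0).Nondegenerate)
  {k : ℕ} {M : Type v} [AddCommGroup M] [Module ℂ M] [FiniteDimensional ℂ M] (hn : 3 ≤ k + 1 + 1)
  (ρ : OmM (k + 1 + 1) Q0 →* Module.End ℂ M)

/-- Levi elements of square determinant. -/
noncomputable def glM (g : GL (Fin (k + 1 + 1)) F) (hg : lvI g ∈ Cfsg.Omega F (⇑(plusForm (k + 1 + 1) F))) :
    OmM (k + 1 + 1) Q0 := embG Q0 ⟨lvI g, hg⟩

theorem glM_conj_u (g : GL (Fin (k + 1 + 1)) F) (hg : lvI g ∈ Cfsg.Omega F (⇑(plusForm (k + 1 + 1) F)))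
    (a : Fin (k + 1 + 1) → F) (w : κ → F) :
    glM Q0 g hg * uM Q0 h0 hn a w * (glM Q0 g hg)⁻¹ =
      uM Q0 h0 hn ((g : Matrix (Fin (k + 1 + 1)) (Fin (k + 1 + 1)) F) *ᵥ a) w := by
  have e : ∀ p : Fin (k + 1 + 1) ⊕ Fin (k + 1 + 1) → F, ∀ z : κ → F,
      mat (mixForm (k + 1 + 1) Q0) (glM Q0 g hg).1 *ᵥ Sum.elim p z =
        Sum.elim (mat (plusForm (k + 1 + 1) F) (lvI g) *ᵥ p) z := fun p z =>
    embP_mulVec Q0 (lvI g) p z
  refine Subtype.ext (sgM_conj Q0 h0 hn _ ?_ ?_)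
  · rw [inLp, inLp, e, mat_lvI, inL, fromBlocks_mulVec]
    congr 1
    funext i; rcases i with i | i <;> simp [inL]
  · rw [inW, e, mulVec_zero]

theorem EgM_eq (L : Module.Dual F (AltM F (k + 1 + 1))) :
    Eg hn (rhoP Q0 ρ) L = RepEigen.eig ρ (xM Q0 hn) (chi L) := rfl

theorem lvM_mem_KV_of_scalar {a : F} {g h : Matrix.SpecialLinearGroup (Fin (k + 1 + 1)) F} {c : ℂ}
    (hg : ∀ x ∈ VV Q0 hn ρ a, ρ (lvM Q0 hn g) x = c • x)
    (hh : (luv (Pi.single 0 1) (Pi.single 1 1) : Module.Dual F (AltM F (k + 1 + 1))).comp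
      (cg (h : Matrix (Fin (k + 1 + 1)) (Fin (k + 1 + 1)) F)) = luv (Pi.single 0 1) (Pi.single 1 1))
    (hh' : (luv (Pi.single 0 1) (Pi.single 1 1) : Module.Dual F (AltM F (k + 1 + 1))).comp
      (cg ((h⁻¹ : Matrix.SpecialLinearGroup (Fin (k + 1 + 1)) F) : Matrix (Fin (k + 1 + 1)) (Fin (k + 1 + 1)) F)) =
      luv (Pi.single 0 1) (Pi.single 1 1)) :
    lvM Q0 hn ⁅g, h⁆ ∈ KV Q0 hn ρ a := by
  rw [map_commutatorElement]
  refine comm_scalar Q0 hn ρ hg (fun x hx => lvM_map_V Q0 hn ρ h hh hx) fun x hx => ?_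
  rw [← map_inv]
  exact lvM_map_V Q0 hn ρ h⁻¹ hh' hx

theorem single_one_cons : (Pi.single 1 1 : Fin (k + 1 + 1) → F) = Fin.cons 0 (Pi.single 0 1) := by
  funext i; cases i using Fin.cases with
  | zero => simp
  | succ i =>
    rw [Fin.cons_succ, Pi.single_apply, Pi.single_apply]
    congr 1
    exact propext ⟨fun h => Fin.succ_injective _ (h.trans rfl), fun h => by rw [h]; rfl⟩

theorem emb_emb_luv (g : Matrix.SpecialLinearGroup (Fin k) F) :
    (luv (Pi.single 0 1) (Pi.single 1 1) : Module.Dual F (AltM F (k + 1 + 1))).comp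
      (cg (emb (emb g) : Matrix (Fin (k + 1 + 1)) (Fin (k + 1 + 1)) F)) = luv (Pi.single 0 1) (Pi.single 1 1) := by
  rw [luv_comp, single_zero_cons, single_one_cons, vecMul_emb, vecMul_emb, zero_vecMul, single_zero_cons,
    vecMul_emb, zero_vecMul]

variable (hdec : ∀ L : Module.Dual F (AltM F (k + 1 + 1)), Dec L →
  Module.finrank ℂ (Eg hn (rhoP Q0 ρ) L) = RR F κ) {a : F} (ha : a ≠ 0)
  (htriv : Triv Q0 h0 hn ρ a) (hperf : commutator (Matrix.SpecialLinearGroup (Fin k) F) = ⊤)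

include hdec ha htriv hperf in
theorem emb_mem_KV (g : Matrix.SpecialLinearGroup (Fin k) F) : lvM Q0 hn (emb (emb g)) ∈ KV Q0 hn ρ a := by
  have hle : commutator (Matrix.SpecialLinearGroup (Fin k) F) ≤
      (KV Q0 hn ρ a).comap ((lvM Q0 hn).comp (emb.comp emb)) := by
    rw [commutator_def, Subgroup.commutator_le]
    intro x _ y _
    show lvM Q0 hn (emb (emb ⁅x, y⁆)) ∈ KV Q0 hn ρ a
    rw [map_commutatorElement, map_commutatorElement]
    obtain ⟨c, hc⟩ := tv_scalar Q0 h0 hn ρ hdec ha htriv (emb_emb_luv x) fun p hp => by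
      rcases hp with rfl | rfl
      · rw [single_zero_cons, emb_mulVec, mulVec_zero, sub_self]; exact ⟨rfl, rfl⟩
      · rw [single_one_cons, emb_mulVec, emb_fix_col, sub_self]; exact ⟨rfl, rfl⟩
    refine lvM_mem_KV_of_scalar Q0 hn ρ hc (emb_emb_luv y) ?_
    rw [← map_inv, ← map_inv]
    exact emb_emb_luv _
  exact hle (hperf ▸ Subgroup.mem_top g)

include hdec ha htriv in
theorem tv_col_mem {u : Fin (k + 1 + 1) → F} (hu0 : u 0 = 0) (hu1 : u 1 = 0) {i : Fin (k + 1 + 1)}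
    (hi : i = 0 ∨ i = 1) (c : F) (h : (Pi.single i c : Fin (k + 1 + 1) → F) ⬝ᵥ u = 0) :
    lvM Q0 hn (tv u (Pi.single i c) h) ∈ KV Q0 hn ρ a := by
  classical
  have hui : ∀ j, u j ≠ 0 → j ≠ 0 ∧ j ≠ 1 := fun j hj => ⟨fun e => hj (e ▸ hu0), fun e => hj (e ▸ hu1)⟩
  suffices ∀ s : Finset (Fin (k + 1 + 1)),
      ∃ hs : (Pi.single i c : Fin (k + 1 + 1) → F) ⬝ᵥ (∑ j ∈ s, Pi.single j (u j)) = 0,
        lvM Q0 hn (tv _ _ hs) ∈ KV Q0 hn ρ a by
    obtain ⟨hs, hm⟩ := this Finset.univ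
    rwa [tv_congr (h' := h) (Finset.univ_sum_single u) rfl] at hm
  intro s
  induction s using Finset.induction with
  | empty =>
    refine ⟨by simp, ?_⟩
    have e : tv (∑ j ∈ (∅ : Finset (Fin (k + 1 + 1))), Pi.single j (u j)) (Pi.single i c) (by simp) = 1 :=
      sl_ext (by rw [coe_tv, Finset.sum_empty, Matrix.SpecialLinearGroup.coe_one, zero_vecMulVec, add_zero])
    rw [e, map_one]; exact one_mem _
  | insert j s hj ih =>
    obtain ⟨hs, hm⟩ := ih
    have hj' : (Pi.single i c : Fin (k + 1 + 1) → F) ⬝ᵥ Pi.single j (u j) = 0 := by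
      rw [single_dotProduct]
      by_cases e : i = j
      · subst e; rcases hi with rfl | rfl <;> simp [hu0, hu1]
      · rw [Pi.single_eq_of_ne e, mul_zero]
    refine ⟨by rw [Finset.sum_insert hj, dotProduct_add, hj', hs, add_zero], ?_⟩
    rw [tv_congr (h' := by rw [dotProduct_add, hj', hs, add_zero]) (Finset.sum_insert hj) rfl, tv_add_left hj' hs, map_mul]
    refine mul_mem ?_ hm
    by_cases e : u j = 0
    · have e1 : tv (Pi.single j (u j)) (Pi.single i c) hj' = 1 :=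
        sl_ext (by rw [coe_tv, e, Pi.single_zero, Matrix.SpecialLinearGroup.coe_one, zero_vecMulVec, add_zero])
      rw [e1, map_one]; exact one_mem _
    · have hji : j ≠ i := by
        rcases hi with rfl | rfl
        · exact (hui j e).1
        · exact (hui j e).2
      have e1 : tv (Pi.single j (u j)) (Pi.single i c) hj' = Matrix.SpecialLinearGroup.transvection hji (u j * c) := by
        rw [← tv_single hji (u j * c) (single_dot_single hji _ _)]
        refine sl_ext ?_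
        rw [coe_tv, coe_tv]
        congr 1
        ext x y
        by_cases h1 : x = j <;> by_cases h2 : y = i <;> simp [vecMulVec_apply, h1, h2]
      rw [e1]
      exact transvection_hom_mem Q0 h0 hn ρ hdec ha htriv hji (hui j e).1 (hui j e).2 hi _

include hdec ha htriv hperf in
/-- A transvection along the radical of the weight acts trivially. -/
theorem tv_rad_mem {u φ : Fin (k + 1 + 1) → F} (hu0 : u 0 = 0) (hu1 : u 1 = 0) (h : φ ⬝ᵥ u = 0) :
    lvM Q0 hn (tv u φ h) ∈ KV Q0 hn ρ a := by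
  classical
  have eu : u = Fin.cons 0 (Fin.cons 0 fun i => u i.succ.succ) := by
    funext i; cases i using Fin.cases with
    | zero => simpa using hu0
    | succ i => cases i using Fin.cases with
      | zero => simpa using hu1
      | succ i => rfl
  have eφ : φ = Pi.single 0 (φ 0) + Pi.single 1 (φ 1) + Fin.cons 0 (Fin.cons 0 fun i => φ i.succ.succ) := by
    funext i; cases i using Fin.cases with
    | zero => simp
    | succ i => cases i using Fin.cases with
      | zero => simp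
      | succ i => simp [Fin.ext_iff]
  have h0' : (Pi.single 0 (φ 0) : Fin (k + 1 + 1) → F) ⬝ᵥ u = 0 := by rw [single_dotProduct, hu0, mul_zero]
  have h1' : (Pi.single 1 (φ 1) : Fin (k + 1 + 1) → F) ⬝ᵥ u = 0 := by rw [single_dotProduct, hu1, mul_zero]
  have hr : (fun i : Fin k => φ i.succ.succ) ⬝ᵥ (fun i : Fin k => u i.succ.succ) = 0 := by
    have := h
    rw [eφ, add_dotProduct, add_dotProduct, h0', h1', zero_add, zero_add, eu, cons_dot, cons_dot] at this
    simpa using this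
  have hR : (Fin.cons 0 (Fin.cons 0 fun i => φ i.succ.succ) : Fin (k + 1 + 1) → F) ⬝ᵥ u = 0 := by
    rw [eu, cons_dot, cons_dot]
    simpa using hr
  rw [tv_congr (h' := by rw [add_dotProduct, add_dotProduct, h0', h1', hR]; simp) rfl eφ,
    tv_add_right (by rw [add_dotProduct, h0', h1', add_zero]) hR, tv_add_right h0' h1', map_mul, map_mul]
  refine mul_mem (mul_mem (tv_col_mem Q0 h0 hn ρ hdec ha htriv hu0 hu1 (Or.inl rfl) _ _)
    (tv_col_mem Q0 h0 hn ρ hdec ha htriv hu0 hu1 (Or.inr rfl) _ _)) ?_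
  rw [tv_congr (h' := by rw [cons_dot, cons_dot]; simpa using hr) eu rfl, ← emb_tv (h := by rw [cons_dot]; simpa using hr),
    ← emb_tv (h := hr)]
  exact emb_mem_KV Q0 h0 hn ρ hdec ha htriv hperf _

/-- The transvection moving the pair of the weight. -/
def lineT (c : F) : Matrix.SpecialLinearGroup (Fin (k + 1 + 1)) F :=
  Matrix.SpecialLinearGroup.transvection (show (1 : Fin (k + 1 + 1)) ≠ 0 by simp) c

theorem lineT_luv (c : F) : (luv (Pi.single 0 1) (Pi.single 1 1) : Module.Dual F (AltM F (k + 1 + 1))).comp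
    (cg (lineT (k := k) c : Matrix (Fin (k + 1 + 1)) (Fin (k + 1 + 1)) F)) = luv (Pi.single 0 1) (Pi.single 1 1) := by
  rw [luv_comp, lineT, vecMul_transvection, vecMul_transvection, Pi.single_eq_of_ne (by simp), zero_mul, Pi.single_zero,
    add_zero, Pi.single_eq_same, one_mul,
    show (Pi.single 0 c : Fin (k + 1 + 1) → F) = c • Pi.single 0 1 by rw [← Pi.single_smul, smul_eq_mul, mul_one]]
  refine (congrArg (luv _) (add_comm _ _)).trans ?_
  simpa using luv_comb (Pi.single 0 (1 : F) : Fin (k + 1 + 1) → F) (Pi.single 1 1) 1 0 c 1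

theorem lineT_conj_one (c : F) (w : κ → F) :
    lvM Q0 hn (lineT c) * uM Q0 h0 hn (Pi.single 1 1) w * (lvM Q0 hn (lineT c))⁻¹ =
      uM Q0 h0 hn (Pi.single 1 1) w := by
  rw [lvM_conj_u, lineT, mulVec_transvection, Pi.single_eq_of_ne (by simp), mul_zero, Pi.single_zero, add_zero]

theorem lineT_VL {a : F} (c : F) {x : M} (hx : x ∈ VL Q0 h0 hn ρ a) : ρ (lvM Q0 hn (lineT c)) x ∈ VL Q0 h0 hn ρ a := by
  refine Submodule.mem_inf.mpr ⟨lvM_map_V Q0 hn ρ _ (lineT_luv c) hx.1, ?_⟩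
  exact map_mem_eig ρ id Function.surjective_id (fun w => lineT_conj_one Q0 h0 hn c w) (fun _ => rfl) hx.2

include hdec ha in
theorem exists_lam (c : F) : ∃ l : ℂ, ∀ x ∈ VL Q0 h0 hn ρ a, ρ (lvM Q0 hn (lineT c)) x = l • x :=
  smul_of_line ρ (finrank_VL Q0 h0 hn ρ hdec ha) fun _ hx => lineT_VL Q0 h0 hn ρ c hx

include hdec ha in
theorem lam_eq_one (hq : 3 < Fintype.card F) {c : F} {l : ℂ}
    (hl : ∀ x ∈ VL Q0 h0 hn ρ a, ρ (lvM Q0 hn (lineT c)) x = l • x) : l = 1 := by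
  classical
  obtain ⟨t, ht0, ht⟩ := exists_pow_ne_one (F := F) (k := 2) (fun h => by
    have := Nat.le_of_dvd (by norm_num) h; omega)
  let d : Fin (k + 1 + 1) → F := Fin.cons t (Fin.cons t⁻¹ 1)
  have hd : ∏ i, d i = 1 := by simp [d, Fin.prod_univ_succ, ht0]
  have e0 : (Pi.single 0 1 : Fin (k + 1 + 1) → F) ᵥ* diagonal d = t • Pi.single 0 1 := by
    ext i; rw [vecMul_diagonal]
    by_cases hi : i = 0
    · subst hi; simp [d]
    · simp [hi]
  have e1 : (Pi.single 1 1 : Fin (k + 1 + 1) → F) ᵥ* diagonal d = t⁻¹ • Pi.single 1 1 := by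
    ext i; rw [vecMul_diagonal]
    by_cases hi : i = 1
    · subst hi; simp [show d 1 = t⁻¹ from rfl]
    · simp [hi]
  have hdL : (luv (Pi.single 0 1) (Pi.single 1 1) : Module.Dual F (AltM F (k + 1 + 1))).comp
      (cg (dia d hd : Matrix (Fin (k + 1 + 1)) (Fin (k + 1 + 1)) F)) = luv (Pi.single 0 1) (Pi.single 1 1) := by
    rw [luv_comp, coe_dia, e0, e1]
    have := luv_comb (Pi.single 0 (1 : F) : Fin (k + 1 + 1) → F) (Pi.single 1 1) t 0 0 t⁻¹
    simp only [zero_smul, add_zero, zero_add, zero_mul, sub_zero, mul_inv_cancel₀ ht0, one_smul] at this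
    exact this
  have hdVL : ∀ x ∈ VL Q0 h0 hn ρ a, ρ (lvM Q0 hn (dia d hd)) x ∈ VL Q0 h0 hn ρ a := fun x hx => by
    refine Submodule.mem_inf.mpr ⟨lvM_map_V Q0 hn ρ _ hdL hx.1, ?_⟩
    refine map_mem_eig ρ (fun w => t⁻¹ • w) (fun w => ⟨t • w, by simp [smul_smul, ht0]⟩) (fun w => ?_) (fun _ => rfl) hx.2
    rw [lvM_conj_u, coe_dia, ← uM_smul_left]
    congr 1
    ext i; rw [mulVec_diagonal]
    by_cases hi : i = 1
    · subst hi; simp [show d 1 = t⁻¹ from rfl]
    · simp [hi]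
  have hne : d 1 * (d 0)⁻¹ - 1 ≠ 0 := by
    show t⁻¹ * t⁻¹ - 1 ≠ 0
    rw [sub_ne_zero]; intro e
    apply ht
    have := congrArg (fun z : F => z * t ^ 2) e
    simp only [one_mul] at this
    rw [← this]; field_simp
  have hne' : VL Q0 h0 hn ρ a ≠ ⊥ := fun h => by
    have := finrank_VL Q0 h0 hn ρ hdec ha
    rw [h, finrank_bot] at this; omega
  obtain ⟨x, hx, hx0⟩ := Submodule.exists_mem_ne_zero_of_ne_bot hne'
  have h1 := comm_fix ρ (finrank_VL Q0 h0 hn ρ hdec ha) (g := lvM Q0 hn (dia d hd))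
    (h := lvM Q0 hn (lineT (c / (d 1 * (d 0)⁻¹ - 1)))) hdVL (fun _ hy => lineT_VL Q0 h0 hn ρ _ hy) hx
  rw [← map_commutatorElement, lineT, transvection_comm_dia, mul_div_cancel₀ _ hne] at h1
  have h2 := hl x hx
  rw [lineT, h1] at h2
  exact (smul_left_injective ℂ hx0 (h2.symm.trans (one_smul ℂ x).symm))

theorem prW_neg_mul (b : F) (t : κ → F) : prW Q0 b (-t) * prW Q0 b t = 1 := by
  ext w
  rw [AddChar.mul_apply, prW_apply, prW_apply, ← AddChar.map_add_eq_mul, QuadraticMap.polar_neg_right,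
    AddChar.one_apply, show -(-QuadraticMap.polar (⇑Q0) w t) * b + -QuadraticMap.polar (⇑Q0) w t * b = 0 by ring,
    AddChar.map_zero_eq_one]

include hdec ha in
/-- The transvection is diagonal in the pieces of the weight space. -/
theorem lineT_piece {c : F} {l : ℂ} (hl : ∀ x ∈ VL Q0 h0 hn ρ a, ρ (lvM Q0 hn (lineT c)) x = l • x) (t : κ → F)
    {x : M} (hx : x ∈ VV Q0 hn ρ a ⊓ RepEigen.eig ρ (uM Q0 h0 hn (Pi.single 1 1))
      (prW Q0 (bf (La (k := k) a) (Pi.single 1 1) (Pi.single 0 1)) t)) :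
    ρ (lvM Q0 hn (lineT c)) x = (l * psi0 (a * c * Q0 t)) • x := by
  classical
  set u0 := uM Q0 h0 hn (Pi.single 0 1)
  set y := ρ (u0 (-t)) x
  have hy : y ∈ VL Q0 h0 hn ρ a := by
    have h := map_piece ρ (f := uM Q0 h0 hn (Pi.single 1 1)) (X := VV Q0 hn ρ a) (g := u0)
      (fun w x hx => uM_map_Eg Q0 h0 hn ρ _ w hx)
      (pr := prW Q0 (bf (La (k := k) a) (Pi.single 1 1) (Pi.single 0 1)))
      (fun w' w x hx => uM_rel Q0 h0 hn ρ _ _ w w' hx) (-t) _ hx
    rwa [prW_neg_mul] at h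
  have hxy : x = ρ (u0 t) y := by
    simp only [y]
    rw [← Module.End.mul_apply, ← map_mul, ← uM_add_right, add_neg_cancel, hom_zero (uM_add_right Q0 h0 hn _), map_one, Module.End.one_apply]
  have e := uM_conj_V Q0 h0 hn ρ (g := lvM Q0 hn (lineT c)) (p := Pi.single 0 1) (q := Pi.single 1 c) (w := t)
    (by rw [lvM_conj_u, lineT, mulVec_transvection, Pi.single_eq_same, mul_one])
    (lvM_map_V Q0 hn ρ _ (lineT_luv c) hy.1)
  rw [hl y hy, map_smul, map_smul, show (Pi.single 1 c : Fin (k + 1 + 1) → F) = c • Pi.single 1 1 by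
      rw [← Pi.single_smul, smul_eq_mul, mul_one], uM_smul_left, (RepEigen.mem_eig ρ).mp hy.2, AddChar.one_apply,
    one_smul, smul_smul] at e
  rw [hxy]
  refine e.trans ?_
  congr 1
  rw [mul_comm l]
  congr 2
  simp [smul_eq_mul]
  ring

theorem uM_xM_comm (b : Fin (k + 1 + 1) → F) (A : AltM F (k + 1 + 1)) (w : κ → F) :
    xM Q0 hn A * uM Q0 h0 hn b w = uM Q0 h0 hn b w * xM Q0 hn A := by
  have e := uM_comm_x Q0 h0 hn b w A
  rw [mul_inv_eq_iff_eq_mul] at e
  exact e.symm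

include h0 in
theorem xM_add' (A B : AltM F (k + 1 + 1)) : xM Q0 hn (A + B) = xM Q0 hn A * xM Q0 hn B := xM_add Q0 hn A B

include hdec ha in
/-- The trace of the transvection on the weight space. -/
theorem trP_lineT {c : F} {l : ℂ} (hl : ∀ x ∈ VL Q0 h0 hn ρ a, ρ (lvM Q0 hn (lineT c)) x = l • x) :
    trP ρ (xM Q0 hn) (lvM Q0 hn (lineT c)) (chi (La a)) = l * ∑ t : κ → F, psi0 (a * c * Q0 t) := by
  classical
  have hc := (bf_La_01 (k := k) ha).2
  set pr := prW Q0 (bf (La (k := k) a) (Pi.single 1 1) (Pi.single 0 1))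
  have hbij : Function.Bijective pr := prW_bijective Q0 h0 hc
  set e := Equiv.ofBijective pr hbij
  rw [trP_refine ρ (xM_add Q0 hn) (uM_add_right Q0 h0 hn (Pi.single 1 1)) (fun A w => uM_xM_comm Q0 h0 hn _ A w) _ _
    (c := fun χ' => l * psi0 (a * c * Q0 (e.symm χ')))
    (fun χ' x hx => lineT_piece Q0 h0 hn ρ hdec ha hl (e.symm χ') (by
      have e' : pr (e.symm χ') = χ' := e.apply_symm_apply χ'
      rw [← e'] at hx
      exact hx)),
    Finset.mul_sum, ← Equiv.sum_comp e]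
  refine Finset.sum_congr rfl fun t _ => ?_
  have hd : Module.finrank ℂ ↥(VV Q0 hn ρ a ⊓ RepEigen.eig ρ (uM Q0 h0 hn (Pi.single 1 1)) (e t)) = 1 := by
    rw [finrank_piece ρ (f := uM Q0 h0 hn (Pi.single 1 1)) (X := VV Q0 hn ρ a)
      (g := uM Q0 h0 hn (Pi.single 0 1)) (fun w x hx => uM_map_Eg Q0 h0 hn ρ _ w hx) (pr := pr)
      (fun w' w x hx => uM_rel Q0 h0 hn ρ _ _ w w' hx) hbij]
    exact finrank_VL Q0 h0 hn ρ hdec ha
  rw [Equiv.symm_apply_apply, show RepEigen.eig ρ (xM Q0 hn) (chi (La (k := k) a)) = VV Q0 hn ρ a from rfl, hd,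
    Nat.cast_one, mul_one]

include hdec ha in
/-- Large fields make the radical act trivially. -/
theorem triv_of_big (hq : 3 < Fintype.card F) : Triv Q0 h0 hn ρ a := by
  refine triv_of_scale Q0 h0 hn ρ hdec ha fun j hj0 hj1 w => ?_
  obtain ⟨μ, hμ0, hμ⟩ := exists_pow_ne_one (F := F) (k := 2) (fun h => by
    have := Nat.le_of_dvd (by norm_num) h; omega)
  obtain ⟨g, hg, hgm⟩ := exists_dil_lv hn j hμ0
  have hne : μ * μ - 1 ≠ 0 := sub_ne_zero.mpr fun e => hμ (by rw [sq, e])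
  refine ⟨glM Q0 g hg, (μ * μ - 1)⁻¹ • w, fun x hx => ?_, ?_⟩
  · refine map_Eg hn (rhoP Q0 ρ) g hg (La a) (x := x) ?_
    show x ∈ Eg hn (rhoP Q0 ρ) ((La a).comp (cg (g : Matrix (Fin (k + 1 + 1)) (Fin (k + 1 + 1)) F)))
    rw [La_comp (by
      rw [luv_comp, hgm]
      congr 1 <;>
      · ext i; rw [vecMul_diagonal]
        by_cases hi : i = j
        · subst hi; simp [Pi.single_eq_of_ne, hj0, hj1]
        · simp [Function.update_of_ne hi])]
    exact hx
  · refine (glM_conj_u Q0 h0 hn g hg _ _).trans ?_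
    simp only [hgm]
    have e : diagonal (Function.update (1 : Fin (k + 1 + 1) → F) j (μ * μ)) *ᵥ (Pi.single j 1 : Fin (k + 1 + 1) → F) =
        (μ * μ) • Pi.single j 1 := by
      ext i; rw [mulVec_diagonal]
      by_cases hi : i = j
      · subst hi; simp
      · simp [hi]
    rw [e, uM_smul_left, smul_smul]
    congr 1
    rw [← one_smul F w, smul_smul, smul_smul, ← add_smul]
    congr 1
    field_simp
    ring

end Cfsg.Lib.OrthMinDeg
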