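import Cfsg.Agent.Known.OrthMinDegree.Mixed.Trace
import Cfsg.Agent.Known.OrthMinDegree.Fixed

/-! The lower bound for the fixed space. -/

set_option autoImplicit false
set_option linter.unusedSectionVars false
set_option linter.style.haveILetI false

open Matrix Cfsg.Lib.Classical Cfsg.Lib.Classical.Refl Cfsg.Lib.Classical.HypQuad Cfsg.Lib.SLMinDeg

namespace Cfsg.Lib.OrthMinDeg

universe u v

variable {F : Type u} [Field F] [Fintype F] {k : ℕ} {κ : Type} [Fintype κ] [DecidableEq κ]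
  (Q0 : QuadraticForm F (κ → F))
  {M : Type v} [AddCommGroup M] [Module ℂ M] [FiniteDimensional ℂ M] (hn : 3 ≤ k + 1 + 1)
  (ρ : OmM (k + 1 + 1) Q0 →* Module.End ℂ M)

theorem trP_zero_of_fixed {g : OmM (k + 1 + 1) Q0} (h : ∀ x ∈ Eg hn (rhoP Q0 ρ) 0, ρ g x = x) :
    trP ρ (xM Q0 hn) g (chi 0) = (ff hn (rhoP Q0 ρ) : ℂ) := by
  rw [trP_scalar ρ (xM_add Q0 hn) (c := 1) (fun x hx => by rw [one_smul]; exact h x hx), one_mul]
  rfl

theorem lvM_map_zero (g : Matrix.SpecialLinearGroup (Fin (k + 1 + 1)) F) {x : M}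
    (hx : x ∈ Eg hn (rhoP Q0 ρ) 0) : ρ (lvM Q0 hn g) x ∈ Eg hn (rhoP Q0 ρ) 0 :=
  map_Eg hn (rhoP Q0 ρ) (Matrix.SpecialLinearGroup.toGL g) (lvI_mem hn g) 0 (x := x) (by
    rwa [LinearMap.zero_comp])

/-- A moved vector of an invariant part of the fixed space gives the bound. -/
theorem lower_of_moved
    (hex : ¬ (k + 1 = 2 ∧ (Fintype.card F = 2 ∨ Fintype.card F = 4)) ∧
      ¬ (k + 1 = 3 ∧ (Fintype.card F = 2 ∨ Fintype.card F = 3)))
    {W : Submodule ℂ M} (hWinv : ∀ g : Matrix.SpecialLinearGroup (Fin (k + 1 + 1)) F, ∀ x ∈ W,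
      ρ (lvM Q0 hn g) x ∈ W)
    {g : Matrix.SpecialLinearGroup (Fin (k + 1 + 1)) F} {x : M} (hx : x ∈ W)
    (hgx : ρ (lvM Q0 hn g) x ≠ x) :
    S (Fintype.card F) (k + 1 + 1) - 1 ≤ Module.finrank ℂ W := by
  classical
  let H := Matrix.SpecialLinearGroup (Fin (k + 1 + 1)) F
  let σ : H →* Module.End ℂ M := ρ.comp (lvM Q0 hn)
  let Fx : Submodule ℂ M := ⨅ g : H, LinearMap.ker (σ g - 1)
  have hFx : ∀ x, x ∈ Fx ↔ ∀ g, σ g x = x := fun x => by simp [Fx, Submodule.mem_iInf, sub_eq_zero]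
  obtain ⟨T, hT⟩ := Cfsg.Lib.Chars.exists_isCompl_subrep (σ : Representation ℂ H M)
    { toSubmodule := W ⊓ Fx, apply_mem_toSubmodule := fun g v hv => by
        have h2 := (hFx v).mp hv.2
        show σ g v ∈ W ⊓ Fx
        rw [h2 g]; exact hv }
  set X := W ⊓ T.toSubmodule with hX
  have hXinv : ∀ g : H, ∀ x ∈ X, σ g x ∈ X := fun g x hx => ⟨hWinv g x hx.1, T.apply_mem_toSubmodule g hx.2⟩
  have hnf : ∀ x ∈ X, (∀ g : H, σ g x = x) → x = 0 := fun x hx h =>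
    (Submodule.mem_bot ℂ).mp (hT.inf_eq_bot.le ⟨⟨hx.1, (hFx x).mpr h⟩, hx.2⟩)
  have hX0 : X ≠ ⊥ := fun h => by
    apply hgx
    have hsup : W ⊓ Fx ⊔ X = W := by
      rw [hX, inf_comm W T.toSubmodule, ← sup_inf_assoc_of_le _ (inf_le_left : W ⊓ Fx ≤ W), hT.sup_eq_top, top_inf_eq]
    rw [h, sup_bot_eq] at hsup
    exact (hFx x).mp (hsup.symm ▸ hx : x ∈ W ⊓ Fx).2 g
  obtain ⟨Y, hY, hYX, hY0, hYirr⟩ := exists_minimal σ hXinv hX0
  have h2 := two_le_of_nofix σ (Cfsg.Lib.Classical.SL_commutator_eq_top (by rw [Fintype.card_fin]; omega)) hY hY0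
    fun x hx => hnf x (hYX hx)
  have hb := main_bound.{u, v} (F := F) (k + 1) (by omega) hex Y (subRep σ Y hY) hYirr h2
  exact hb.trans (Submodule.finrank_mono (hYX.trans inf_le_left))

/-- A moved vector of the fixed space gives the bound. -/
theorem ff_lower_of_moved
    (hex : ¬ (k + 1 = 2 ∧ (Fintype.card F = 2 ∨ Fintype.card F = 4)) ∧
      ¬ (k + 1 = 3 ∧ (Fintype.card F = 2 ∨ Fintype.card F = 3)))
    {g : Matrix.SpecialLinearGroup (Fin (k + 1 + 1)) F} {x : M} (hx : x ∈ Eg hn (rhoP Q0 ρ) 0)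
    (hgx : ρ (lvM Q0 hn g) x ≠ x) :
    S (Fintype.card F) (k + 1 + 1) - 1 ≤ ff hn (rhoP Q0 ρ) :=
  lower_of_moved Q0 hn ρ hex (fun g _ hx => lvM_map_zero Q0 hn ρ g hx) hx hgx

/-- A fixed space of the minimal dimension is irreducible for the Levi factor. -/
theorem zero_irr (hex : ¬ (k + 1 = 2 ∧ (Fintype.card F = 2 ∨ Fintype.card F = 4)) ∧
      ¬ (k + 1 = 3 ∧ (Fintype.card F = 2 ∨ Fintype.card F = 3)))
    (hf : ff hn (rhoP Q0 ρ) + 1 = S (Fintype.card F) (k + 1 + 1))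
    {g : Matrix.SpecialLinearGroup (Fin (k + 1 + 1)) F} {x : M} (hx : x ∈ Eg hn (rhoP Q0 ρ) 0)
    (hgx : ρ (lvM Q0 hn g) x ≠ x) {U : Submodule ℂ M} (hUW : U ≤ Eg hn (rhoP Q0 ρ) 0)
    (hU : ∀ g : Matrix.SpecialLinearGroup (Fin (k + 1 + 1)) F, ∀ x ∈ U, ρ (lvM Q0 hn g) x ∈ U) :
    U = ⊥ ∨ U = Eg hn (rhoP Q0 ρ) 0 := by
  classical
  set W := Eg hn (rhoP Q0 ρ) 0
  have hsz : ∀ V : Submodule ℂ M, V ≤ W →
      (∀ g : Matrix.SpecialLinearGroup (Fin (k + 1 + 1)) F, ∀ x ∈ V, ρ (lvM Q0 hn g) x ∈ V) →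
      (∀ g x, x ∈ V → ρ (lvM Q0 hn g) x = x) ∨ V = W := by
    intro V hVW hV
    by_cases h : ∀ g x, x ∈ V → ρ (lvM Q0 hn g) x = x
    · exact Or.inl h
    push Not at h
    obtain ⟨g', x', hx', hne⟩ := h
    refine Or.inr (Submodule.eq_of_le_of_finrank_le hVW ?_)
    have := lower_of_moved Q0 hn ρ hex hV hx' hne
    change ff hn (rhoP Q0 ρ) ≤ _
    omega
  rcases hsz U hUW hU with h | h
  swap
  · exact Or.inr h
  obtain ⟨T, hT⟩ := Cfsg.Lib.Chars.exists_isCompl_subrep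
    (ρ.comp (lvM Q0 hn) : Representation ℂ (Matrix.SpecialLinearGroup (Fin (k + 1 + 1)) F) M)
    { toSubmodule := U, apply_mem_toSubmodule := fun g v hv => hU g v hv }
  have hsup : U ⊔ W ⊓ T.toSubmodule = W := by
    rw [inf_comm, ← sup_inf_assoc_of_le _ hUW, hT.sup_eq_top, top_inf_eq]
  rcases hsz (W ⊓ T.toSubmodule) inf_le_left (fun g v hv =>
      ⟨lvM_map_zero Q0 hn ρ g hv.1, T.apply_mem_toSubmodule g hv.2⟩) with h' | h'
  · exfalso
    rw [← hsup] at hx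
    obtain ⟨y, hy, z, hz', rfl⟩ := Submodule.mem_sup.mp hx
    exact hgx (by rw [map_add, h g y hy, h' g z hz'])
  · refine Or.inl (le_bot_iff.mp (hT.inf_eq_bot.le.trans' (le_inf le_rfl ?_)))
    exact hUW.trans (h'.symm.le.trans inf_le_right)

end Cfsg.Lib.OrthMinDeg
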