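import Cfsg.Agent.Known.OrthMinDegree.Alt

/-! The orbit of an indecomposable functional under the special linear group. -/

set_option autoImplicit false
set_option linter.unusedSectionVars false

open Matrix Cfsg.Lib.SLMinDeg

namespace Cfsg.Lib.OrthMinDeg

variable {F : Type*} [Field F] [Fintype F]

theorem orbit_bound {k : ℕ} (hk : 1 ≤ k) (Γ : Subgroup (Matrix.GeneralLinearGroup (Fin (k + 1 + 1)) F))
    (hSL : ∀ g : Matrix.SpecialLinearGroup (Fin (k + 1 + 1)) F, Matrix.SpecialLinearGroup.toGL g ∈ Γ)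
    {L : Module.Dual F (AltM F (k + 1 + 1))} (hL : L ≠ 0) (hD : ¬ Dec L) :
    (Fintype.card F ^ (k + 1) - 1) * Fintype.card F ^ k ≤
      Nat.card {L' : Module.Dual F (AltM F (k + 1 + 1)) //
        ∃ g ∈ Γ, L' = L.comp (cg (g : Matrix (Fin (k + 1 + 1)) (Fin (k + 1 + 1)) F))} := by
  classical
  set e : Fin (k + 1 + 1) → Fin (k + 1 + 1) → F := fun i => Pi.single i 1 with he
  -- a normal form
  obtain ⟨g₁, hg₁⟩ : ∃ g : Matrix.SpecialLinearGroup (Fin (k + 1 + 1)) F,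
      bf (L.comp (cg (g : Matrix (Fin (k + 1 + 1)) (Fin (k + 1 + 1)) F))) (e 0) (e 1) = 1 := by
    obtain ⟨i, j, hij⟩ : ∃ i j, bf L (e i) (e j) ≠ 0 := by
      by_contra hc
      push Not at hc
      exact hL (dual_ext fun i j _ => (hc i j).trans (by simp [bf_apply]))
    set c := bf L (e i) (e j) with hc
    have h1 : bf L (e i) (c⁻¹ • e j) = 1 := by
      rw [map_smul, smul_eq_mul, ← hc, inv_mul_cancel₀ hij]
    obtain ⟨g, t, ha, hb⟩ := exists_pair hk (u := e i) (v := c⁻¹ • e j) (fun hz => by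
      rw [bf_apply, hz, map_zero] at h1; exact zero_ne_one h1)
    refine ⟨g, ?_⟩
    rw [bf_comp]
    simp only [he] at ha hb h1 ⊢
    rw [ha, hb, map_add, h1, map_smul, bf_self, smul_zero, add_zero]
  set L₁ := L.comp (cg (g₁ : Matrix (Fin (k + 1 + 1)) (Fin (k + 1 + 1)) F)) with hL₁
  let φ : Fin (k + 1 + 1) → F := fun j => if j = 0 ∨ j = 1 then 0 else bf L₁ (e 1) (e j)
  let φ' : Fin (k + 1 + 1) → F := fun j => if j = 0 ∨ j = 1 then 0 else -bf L₁ (e 0) (e j)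
  have hφ : φ ⬝ᵥ e 0 = 0 := by simp [φ, he]
  have hφ' : φ' ⬝ᵥ e 1 = 0 := by simp [φ', he]
  set g₂ : Matrix.SpecialLinearGroup (Fin (k + 1 + 1)) F := g₁ * (tv _ φ hφ * tv _ φ' hφ') with hg₂
  set L₂ := L.comp (cg (g₂ : Matrix (Fin (k + 1 + 1)) (Fin (k + 1 + 1)) F)) with hL₂
  have h21 : ∀ a b, bf L₂ a b = bf L₁ (a + (φ' ⬝ᵥ a) • e 1 + (φ ⬝ᵥ a) • e 0)
      (b + (φ' ⬝ᵥ b) • e 1 + (φ ⬝ᵥ b) • e 0) := fun a b => by
    have hv : ∀ w, φ ⬝ᵥ (w + (φ' ⬝ᵥ w) • e 1) = φ ⬝ᵥ w := fun w => by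
      simp [φ, he, dotProduct_add, dotProduct_smul]
    rw [hL₂, bf_comp, hg₂, Matrix.SpecialLinearGroup.coe_mul, ← mulVec_mulVec, ← mulVec_mulVec,
      Matrix.SpecialLinearGroup.coe_mul, ← mulVec_mulVec, ← mulVec_mulVec, mulVec_tv, mulVec_tv, mulVec_tv, mulVec_tv,
      hv, hv, hL₁, bf_comp]
  have p01 : bf L₂ (e 0) (e 1) = 1 := by
    rw [h21]; simp [φ, φ', he] at hg₁ ⊢; exact hg₁
  have hrow : ∀ j : Fin (k + 1 + 1), j ≠ 0 → j ≠ 1 → bf L₂ (e 0) (e j) = 0 ∧ bf L₂ (e 1) (e j) = 0 := by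
    intro j hj0 hj1
    have h10 : bf L₁ (e 1) (e 0) = -1 := by rw [bf_swap, hg₁]
    constructor <;> rw [h21] <;>
      simp [φ, φ', he, hj0, hj1, map_add, map_smul, bf_self] at hg₁ h10 ⊢ <;>
      simp [hg₁, h10]
  have hlin : ∀ w, bf L₂ (e 0) w = w 1 ∧ bf L₂ (e 1) w = -w 0 := by
    intro w
    have hw : w = ∑ i, w i • e i := by
      funext i; simp [he, Finset.sum_apply, Pi.single_apply]
    constructor
    · conv_lhs => rw [hw]
      rw [map_sum, Finset.sum_eq_single 1 (fun b _ hb => by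
        rw [map_smul]
        by_cases hb0 : b = 0
        · subst hb0; rw [bf_self, smul_zero]
        · rw [(hrow b hb0 hb).1, smul_zero]) (fun h => absurd (Finset.mem_univ _) h), map_smul, p01,
        smul_eq_mul, mul_one]
    · conv_lhs => rw [hw]
      rw [map_sum, Finset.sum_eq_single 0 (fun b _ hb => by
        rw [map_smul]
        by_cases hb1 : b = 1
        · subst hb1; rw [bf_self, smul_zero]
        · rw [(hrow b hb hb1).2, smul_zero]) (fun h => absurd (Finset.mem_univ _) h), map_smul, bf_swap, p01,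
        smul_eq_mul, mul_neg, mul_one]
  obtain ⟨i₀, j₀, hi0, hi1, hj0, hj1, hb⟩ : ∃ i j : Fin (k + 1 + 1), i ≠ 0 ∧ i ≠ 1 ∧ j ≠ 0 ∧ j ≠ 1 ∧
      bf L₂ (e i) (e j) ≠ 0 := by
    by_contra hc
    push Not at hc
    apply hD
    have h01 : L₂ = luv (Pi.single 0 1) (Pi.single 1 1) := dual_ext fun i j hij => by
      rw [bf_luv]
      change bf L₂ (e i) (e j) = _
      by_cases hi : i = 0
      · subst hi; rw [(hlin _).1]; simp [he, Pi.single_apply, eq_comm]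
      by_cases hi' : i = 1
      · subst hi'; rw [(hlin _).2]; simp [he, Pi.single_apply, eq_comm]
      by_cases hj : j = 0
      · subst hj; rw [bf_swap, (hlin _).1]; simp [he, Pi.single_apply, hi, hi', eq_comm]
      by_cases hj' : j = 1
      · subst hj'; rw [bf_swap, (hlin _).2]; simp [he, Pi.single_apply, hi, hi', eq_comm]
      rw [hc i j hi hi' hj hj']
      simp [Pi.single_apply, Ne.symm hi, Ne.symm hi']
    have hLe : L = L₂.comp (cg ((g₂⁻¹ : Matrix.SpecialLinearGroup (Fin (k + 1 + 1)) F) :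
        Matrix (Fin (k + 1 + 1)) (Fin (k + 1 + 1)) F)) := by
      rw [hL₂, comp_cg_mul, ← Matrix.SpecialLinearGroup.coe_mul, mul_inv_cancel, Matrix.SpecialLinearGroup.coe_one,
        comp_cg_one]
    rw [hLe, h01]
    exact dec_first.comp (g' := (g₂ : Matrix (Fin (k + 1 + 1)) (Fin (k + 1 + 1)) F))
      (by rw [← Matrix.SpecialLinearGroup.coe_mul, inv_mul_cancel, Matrix.SpecialLinearGroup.coe_one])
  have hij : i₀ ≠ j₀ := fun h => hb (by rw [h, bf_self])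
  -- the family
  choose A hA using fun r : {r : Fin (k + 1) → F // r ≠ 0} =>
    exists_vecMul_eq (F := F) r.2 0 ⟨Fin.last k, by simp [Fin.ext_iff]; omega⟩
  let ψ : (Fin k → F) → Fin (k + 1 + 1) → F := fun t => Fin.cons 0 (Fin.cons 0 t)
  have hψ : ∀ t, ψ t ⬝ᵥ e 0 = 0 := fun t => by simp [ψ, he]
  let gm : {r : Fin (k + 1) → F // r ≠ 0} × (Fin k → F) × Unit → Matrix.GeneralLinearGroup (Fin (k + 1 + 1)) F :=
    fun p => Matrix.SpecialLinearGroup.toGL g₂ * ((1 : Matrix.GeneralLinearGroup (Fin (k + 1 + 1)) F) *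
      (Matrix.SpecialLinearGroup.toGL (tv _ _ (hψ p.2.1)) * Matrix.SpecialLinearGroup.toGL (emb (A p.1)⁻¹)))
  have hmem : ∀ p, gm p ∈ Γ := fun p => mul_mem (hSL _) (mul_mem (by
    exact one_mem _) (mul_mem (hSL _) (hSL _)))
  have hcard : Nat.card ({r : Fin (k + 1) → F // r ≠ 0} × (Fin k → F) × Unit) =
      (Fintype.card F ^ (k + 1) - 1) * Fintype.card F ^ k := by
    rw [Nat.card_prod, Nat.card_prod, card_fun_ne_zero, Nat.card_eq_fintype_card, Fintype.card_fun, Fintype.card_fin,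
      Nat.card_eq_fintype_card, Fintype.card_unit]
    ring
  rw [← hcard]
  haveI : Finite (Module.Dual F (AltM F (k + 1 + 1))) := Module.finite_of_finite F
  refine Nat.card_le_card_of_injective (fun p => ⟨_, gm p, hmem p, rfl⟩) fun p p' hp => ?_
  have hp' : L.comp (cg (gm p : Matrix (Fin (k + 1 + 1)) (Fin (k + 1 + 1)) F)) = L.comp (cg (gm p' : Matrix _ _ F)) :=
    congrArg Subtype.val hp
  set sc : Unit → Fin (k + 1 + 1) → F := fun b => 1 with hsc
  have hval : ∀ p a b, bf (L.comp (cg (gm p : Matrix (Fin (k + 1 + 1)) (Fin (k + 1 + 1)) F))) a b =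
      bf L₂ (diagonal (sc p.2.2) *ᵥ ((tv _ _ (hψ p.2.1) : Matrix.SpecialLinearGroup (Fin (k + 1 + 1)) F).1 *ᵥ
          ((emb (A p.1)⁻¹ : Matrix.SpecialLinearGroup (Fin (k + 1 + 1)) F).1 *ᵥ a)))
        (diagonal (sc p.2.2) *ᵥ ((tv _ _ (hψ p.2.1) : Matrix.SpecialLinearGroup (Fin (k + 1 + 1)) F).1 *ᵥ
          ((emb (A p.1)⁻¹ : Matrix.SpecialLinearGroup (Fin (k + 1 + 1)) F).1 *ᵥ b))) := by
    intro p a b
    have hc : (((1 : Matrix.GeneralLinearGroup (Fin (k + 1 + 1)) F) : Matrix.GeneralLinearGroup (Fin (k + 1 + 1)) F) :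
        Matrix (Fin (k + 1 + 1)) (Fin (k + 1 + 1)) F) = diagonal (sc p.2.2) := by
      simp [hsc]
    simp only [gm, hL₂, bf_comp, Units.val_mul, hc, mulVec_mulVec, mul_assoc]
    rfl
  have hfix : ∀ b, sc b 0 = 1 ∧ sc b 1 = 1 ∧ sc b i₀ = 1 := fun b => by
    simp [hsc]
  have hr0 : ∀ p (w : Fin (k + 1) → F),
      bf (L.comp (cg (gm p : Matrix (Fin (k + 1 + 1)) (Fin (k + 1 + 1)) F))) (e 0) (Fin.cons 0 w) = p.1.1 ⬝ᵥ w := by
    intro p w
    rw [hval]
    have h0 : diagonal (sc p.2.2) *ᵥ ((tv _ _ (hψ p.2.1) : Matrix.SpecialLinearGroup (Fin (k + 1 + 1)) F).1 *ᵥ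
          ((emb (A p.1)⁻¹ : Matrix.SpecialLinearGroup (Fin (k + 1 + 1)) F).1 *ᵥ e 0)) = e 0 := by
      simp only [he]
      rw [emb_fix_col, mulVec_tv, hψ, zero_smul, add_zero]
      ext i; rw [mulVec_diagonal]
      by_cases hi : i = 0
      · subst hi; simp [(hfix p.2.2).1]
      · simp [hi]
    rw [h0, (hlin _).1, mulVec_diagonal, (hfix p.2.2).2.1, one_mul, emb_mulVec, mulVec_tv]
    simp only [he, Pi.add_apply, Pi.smul_apply, Pi.single_eq_of_ne (show (1 : Fin (k + 1 + 1)) ≠ 0 by simp),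
      smul_zero, add_zero]
    rw [show (1 : Fin (k + 1 + 1)) = Fin.succ 0 by simp, Fin.cons_succ]
    trans (Pi.single 0 1 : Fin (k + 1) → F) ⬝ᵥ
      ((((A p.1)⁻¹ : Matrix.SpecialLinearGroup (Fin (k + 1)) F) : Matrix (Fin (k + 1)) (Fin (k + 1)) F) *ᵥ w)
    · exact ((single_dotProduct _ _ _).trans (one_mul _)).symm
    rw [dotProduct_mulVec]
    congr 1
    conv_lhs => rw [← hA p.1, vecMul_vecMul, ← Matrix.SpecialLinearGroup.coe_mul, mul_inv_cancel,
      Matrix.SpecialLinearGroup.coe_one, vecMul_one]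
  have hr : p.1 = p'.1 := Subtype.ext (funext fun i => by
    have h1 := hr0 p (Pi.single i 1)
    rw [hp', hr0 p', dotProduct_single, dotProduct_single, mul_one, mul_one] at h1
    exact h1.symm)
  have hq : ∀ a b, bf L₂ (diagonal (sc p.2.2) *ᵥ ((tv _ _ (hψ p.2.1) : Matrix.SpecialLinearGroup (Fin (k + 1 + 1)) F).1 *ᵥ a))
        (diagonal (sc p.2.2) *ᵥ ((tv _ _ (hψ p.2.1) : Matrix.SpecialLinearGroup (Fin (k + 1 + 1)) F).1 *ᵥ b)) =
      bf L₂ (diagonal (sc p'.2.2) *ᵥ ((tv _ _ (hψ p'.2.1) : Matrix.SpecialLinearGroup (Fin (k + 1 + 1)) F).1 *ᵥ a))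
        (diagonal (sc p'.2.2) *ᵥ ((tv _ _ (hψ p'.2.1) : Matrix.SpecialLinearGroup (Fin (k + 1 + 1)) F).1 *ᵥ b)) := by
    intro a b
    have h1 := congrArg (fun M => bf M ((emb (A p.1)).1 *ᵥ a) ((emb (A p.1)).1 *ᵥ b)) hp'
    have hc : ∀ v : Fin (k + 1 + 1) → F, (emb (A p.1)⁻¹).1 *ᵥ ((emb (A p.1)).1 *ᵥ v) = v := fun v => by
      rw [mulVec_mulVec, ← Matrix.SpecialLinearGroup.coe_mul, ← map_mul, inv_mul_cancel, map_one,
        Matrix.SpecialLinearGroup.coe_one, one_mulVec]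
    beta_reduce at h1
    rwa [hval, hval, ← hr, hc, hc] at h1
  have he1 : ∀ t, (tv _ _ (hψ t) : Matrix.SpecialLinearGroup (Fin (k + 1 + 1)) F).1 *ᵥ e 1 = e 1 := fun t => by
    rw [mulVec_tv, he, dotProduct_single, mul_one, show ψ t 1 = 0 from rfl, zero_smul, add_zero]
  have hsc1 : ∀ b, diagonal (sc b) *ᵥ e 1 = e 1 := fun b => by
    ext i; rw [mulVec_diagonal]
    by_cases hi : i = 1
    · subst hi; simp [(hfix b).2.1]
    · simp [he, hi]
  have ht : p.2.1 = p'.2.1 := funext fun j => by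
    have h1 := hq (e 1) (e j.succ.succ)
    have hj : (j.succ.succ : Fin (k + 1 + 1)) ≠ 0 := Fin.succ_ne_zero _
    rw [he1, he1, hsc1 p.2.2, (hlin _).2, (hlin _).2, mulVec_diagonal, mulVec_diagonal] at h1
    simp only [hsc, Pi.one_apply, one_mul, mulVec_tv, neg_inj] at h1
    simpa [ψ, he, hj.symm] using h1
  have hs : p.2.2 = p'.2.2 := Subsingleton.elim _ _
  exact Prod.ext hr (Prod.ext ht hs)

end Cfsg.Lib.OrthMinDeg
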