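import Cfsg.Agent.Known.OrthMinDegree.Mixed.Elements
import Cfsg.Agent.Known.OrthMinDegree.Mixed.Heis
import Cfsg.Agent.Known.OrthMinDegree.Mixed.Orbit
import Cfsg.Agent.Known.OrthMinDegree.Count

/-! The weights of a small representation on the centre of the unipotent radical. -/

set_option autoImplicit false
set_option linter.unusedSectionVars false
set_option linter.style.haveILetI false

open Matrix Cfsg.Lib.Classical Cfsg.Lib.Classical.Refl Cfsg.Lib.Classical.HypQuad Cfsg.Lib.SLMinDeg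

namespace Cfsg.Lib.OrthMinDeg

universe u v

variable {F : Type u} [Field F] [Fintype F] {n : ℕ} {κ : Type} [Fintype κ] [DecidableEq κ]
  (Q0 : QuadraticForm F (κ → F)) (h0 : (QuadraticMap.polarBilin Q0).Nondegenerate)

/-- A functional with a large isotropic complement. -/
theorem exists_two_pairs {L : Module.Dual F (AltM F n)} (hL : L ≠ 0) (hD : ¬ Dec L) :
    ∃ a a' b b' : Fin n → F, bf L a a' ≠ 0 ∧ bf L b b' ≠ 0 ∧ bf L a b = 0 ∧ bf L a b' = 0 := by
  classical
  obtain ⟨i, j, hij⟩ : ∃ i j, bf L (Pi.single i 1) (Pi.single j 1) ≠ 0 := by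
    by_contra hc
    push Not at hc
    exact hL (dual_ext fun i j _ => (hc i j).trans (by simp [bf_apply]))
  set a : Fin n → F := Pi.single i 1
  set a' : Fin n → F := (bf L a (Pi.single j 1))⁻¹ • Pi.single j 1
  have haa : bf L a a' = 1 := by rw [map_smul, smul_eq_mul, inv_mul_cancel₀ hij]
  by_contra hc
  push Not at hc
  have hzero : ∀ b b', bf L a b = 0 → bf L a b' = 0 → bf L b b' = 0 := fun b b' hb hb' => by
    by_contra h
    exact hc a a' b b' (by rw [haa]; exact one_ne_zero) h hb hb'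
  refine hD ⟨hL, fun l => bf L (Pi.single l 1) a', fun l => bf L a (Pi.single l 1), dual_ext fun x y _ => ?_⟩
  rw [bf_luv]
  simp only [dotProduct_single, mul_one]
  set p : Fin n → F := Pi.single x 1
  set r : Fin n → F := Pi.single y 1
  have h := hzero (p - bf L a p • a') (r - bf L a r • a')
    (by rw [map_sub, map_smul, haa, smul_eq_mul, mul_one, sub_self])
    (by rw [map_sub, map_smul, haa, smul_eq_mul, mul_one, sub_self])
  simp only [map_sub, map_smul, LinearMap.sub_apply, LinearMap.smul_apply, bf_self, smul_eq_mul, mul_zero,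
    bf_swap L r a'] at h
  linear_combination h

variable (hn : 3 ≤ n)

theorem sgM_mem_normal {N : Subgroup (OmM n Q0)} [N.Normal] (h7 : 7 ≤ Fintype.card ((Fin n ⊕ Fin n) ⊕ κ))
    {A : AltM F n} {a b : Fin n → F} (hA : A = wd a b) (ha : inLp (κ := κ) a ∉ Submodule.span F {inLp (κ := κ) b})
    (hb : b ≠ 0) (hN : xM Q0 hn A ∈ N) {u z : (Fin n ⊕ Fin n) ⊕ κ → F} (hu : mixForm n Q0 u = 0)
    (huz : QuadraticMap.polar (⇑(mixForm n Q0)) u z = 0) (hz : mixForm n Q0 z = 0) :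
    sgM Q0 h0 hn hu huz ∈ N := by
  classical
  by_cases h : u = 0 ∨ z ∈ Submodule.span F {u}
  · have e : sgM Q0 h0 hn hu huz = 1 := by
      refine Subtype.ext (ext_mulVec _ fun v => ?_)
      simp only [sgM, mat_siegelG, siegelMap, hz, zero_mul, sub_zero]
      rw [show mat (mixForm n Q0) (1 : OmM n Q0).1 = 1 from rfl, one_mulVec]
      rcases h with h | h
      · simp [h]
      · obtain ⟨c, rfl⟩ := Submodule.mem_span_singleton.mp h
        rw [QuadraticMap.polar_smul_left, smul_eq_mul]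
        module
    rw [e]; exact one_mem _
  push Not at h
  obtain ⟨g, hgu, hgz⟩ := exists_moveM Q0 (u := inLp b) (z := inLp a) (mix_inLp Q0 b) hu (by rw [mix_inLp, hz])
    (polar_Lp_Lp Q0 b a) huz (fun e => hb (funext fun i => by simpa [inLp, inL] using congrFun e (Sum.inl (Sum.inl i))))
    h.1 ha h.2 h7 h0
  have e : sgM Q0 h0 hn hu huz = g * xM Q0 hn A * g⁻¹ := by
    rw [hA, xM_wd Q0 h0 hn]
    exact Subtype.ext (sgM_conj Q0 h0 hn _ hgu hgz).symm
  rw [e]
  exact Subgroup.Normal.conj_mem inferInstance _ hN g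

theorem single_indep {k : ℕ} : inLp (κ := κ) (Pi.single 0 (1 : F) : Fin (k + 1 + 1) → F) ∉
    Submodule.span F {inLp (κ := κ) (Pi.single 1 1)} := fun h => by
  obtain ⟨c, hc⟩ := Submodule.mem_span_singleton.mp h
  have := congrFun hc (Sum.inl (Sum.inl 0))
  simp [inLp, inL] at this

theorem normal_eq_topM {k : ℕ} (hn : 3 ≤ k + 1 + 1) (h7 : 7 ≤ Fintype.card ((Fin (k + 1 + 1) ⊕ Fin (k + 1 + 1)) ⊕ κ))
    {N : Subgroup (OmM (k + 1 + 1) Q0)} [N.Normal]
    (hN : xM Q0 hn (wd (Pi.single 0 1) (Pi.single 1 1)) ∈ N) (h0' : (QuadraticMap.polarBilin Q0).Nondegenerate) :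
    N = ⊤ := by
  classical
  set R := N.map (Cfsg.Omega F (⇑(mixForm (k + 1 + 1) Q0))).subtype with hR
  have hle : Cfsg.Omega F (⇑(mixForm (k + 1 + 1) Q0)) ≤ R := by
    rw [omega_eq_closure_all _ (mix_nondegenerate Q0 h0') (card_idxM hn), Subgroup.closure_le]
    rintro g ⟨u, z, hu, huz, rfl⟩
    refine siegelG_mem_of_singular _ (mix_nondegenerate Q0 h0') R (card_idxM hn) hu (fun w huw hw => ?_) huz
    exact Subgroup.mem_map.mpr ⟨sgM Q0 h0' hn hu huw,
      sgM_mem_normal Q0 h0' hn h7 rfl single_indep (by simp) hN hu huw hw, rfl⟩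
  rw [eq_top_iff]
  rintro g -
  obtain ⟨g', hg', e⟩ := hle g.2
  exact (Subtype.ext e : g' = g) ▸ hg'

variable {k : ℕ} {M : Type v} [AddCommGroup M] [Module ℂ M] [FiniteDimensional ℂ M] (hn : 3 ≤ k + 1 + 1)
  (ρ : OmM (k + 1 + 1) Q0 →* Module.End ℂ M)

/-- The restriction to `Ω⁺`. -/
noncomputable def rhoP : OmP F (k + 1 + 1) →* Module.End ℂ M := ρ.comp (embG Q0)

theorem rhoP_apply (g : OmP F (k + 1 + 1)) : rhoP Q0 ρ g = ρ (embG Q0 g) := rfl

theorem mem_EgM {L : Module.Dual F (AltM F (k + 1 + 1))} {x : M} :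
    x ∈ Eg hn (rhoP Q0 ρ) L ↔ ∀ A, ρ (xM Q0 hn A) x = psi0 (L A) • x := RepEigen.mem_eig _

theorem uM_map_Eg (a : Fin (k + 1 + 1) → F) (w : κ → F) {L : Module.Dual F (AltM F (k + 1 + 1))} {x : M}
    (hx : x ∈ Eg hn (rhoP Q0 ρ) L) : ρ (uM Q0 h0 hn a w) x ∈ Eg hn (rhoP Q0 ρ) L := by
  rw [mem_EgM] at hx ⊢
  intro A
  have e := uM_comm_x Q0 h0 hn a w A
  rw [mul_inv_eq_iff_eq_mul] at e
  rw [← Module.End.mul_apply, ← map_mul, ← e, map_mul, Module.End.mul_apply, hx A, map_smul]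

theorem uM_rel {L : Module.Dual F (AltM F (k + 1 + 1))} (a b : Fin (k + 1 + 1) → F) (w w' : κ → F) {x : M}
    (hx : x ∈ Eg hn (rhoP Q0 ρ) L) :
    ρ (uM Q0 h0 hn a w) (ρ (uM Q0 h0 hn b w') x) =
      psi0 (-QuadraticMap.polar (⇑Q0) w w' * bf L a b) • ρ (uM Q0 h0 hn b w') (ρ (uM Q0 h0 hn a w) x) := by
  rw [← Module.End.mul_apply, ← map_mul, uM_comm, map_mul, map_mul, Module.End.mul_apply, Module.End.mul_apply,
    (mem_EgM Q0 hn ρ).mp (uM_map_Eg Q0 h0 hn ρ a w hx), map_smul, map_smul, smul_eq_mul, bf_apply]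

/-- The characters of the complement. -/
noncomputable def prW (c : F) (w' : κ → F) : AddChar (κ → F) ℂ :=
  psi0.compAddMonoidHom (AddMonoidHom.mk' (fun w => -QuadraticMap.polar (⇑Q0) w w' * c)
    fun w₁ w₂ => by rw [QuadraticMap.polar_add_left]; ring)

theorem prW_apply (c : F) (w' w : κ → F) : prW Q0 c w' w = psi0 (-QuadraticMap.polar (⇑Q0) w w' * c) := rfl

include h0 in
theorem prW_bijective {c : F} (hc : c ≠ 0) : Function.Bijective (prW Q0 c) := by
  classical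
  refine (Fintype.bijective_iff_injective_and_card _).mpr ⟨fun w₁ w₂ h => ?_, AddChar.card_eq.symm⟩
  have key : ∀ w, QuadraticMap.polar (⇑Q0) w w₁ = QuadraticMap.polar (⇑Q0) w w₂ := fun w => by
    have : -QuadraticMap.polar (⇑Q0) w w₁ * c = -QuadraticMap.polar (⇑Q0) w w₂ * c := by
      refine AddChar.to_mulShift_inj_of_isPrimitive psi0_primitive (DFunLike.ext _ _ fun t => ?_)
      have := DFunLike.congr_fun h (t • w)
      rw [prW_apply, prW_apply, QuadraticMap.polar_smul_left, QuadraticMap.polar_smul_left, smul_eq_mul,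
        smul_eq_mul] at this
      rw [AddChar.mulShift_apply, AddChar.mulShift_apply]
      convert this using 2 <;> ring
    exact neg_injective (mul_right_cancel₀ hc this)
  refine sub_eq_zero.mp (h0.1 _ fun w => ?_)
  show QuadraticMap.polar (⇑Q0) (w₁ - w₂) w = 0
  rw [QuadraticMap.polar_sub_left, QuadraticMap.polar_comm (⇑Q0) w₁, QuadraticMap.polar_comm (⇑Q0) w₂, key, sub_self]

/-- The number of vectors of the complement. -/
def RR (F : Type u) [Fintype F] (κ : Type) [Fintype κ] : ℕ := Fintype.card F ^ Fintype.card κ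

theorem card_kfun [DecidableEq F] : Fintype.card (κ → F) = RR F κ := Fintype.card_fun

/-- An invariant part of a weight space is divisible by the size of the complement. -/
theorem finrank_heis {L : Module.Dual F (AltM F (k + 1 + 1))} {a a' : Fin (k + 1 + 1) → F} (hc : bf L a a' ≠ 0)
    {X : Submodule ℂ M} (hXL : X ≤ Eg hn (rhoP Q0 ρ) L)
    (hXa : ∀ w, ∀ x ∈ X, ρ (uM Q0 h0 hn a w) x ∈ X) (hXa' : ∀ w, ∀ x ∈ X, ρ (uM Q0 h0 hn a' w) x ∈ X) :
    Module.finrank ℂ X = RR F κ *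
      Module.finrank ℂ ↥(X ⊓ RepEigen.eig ρ (uM Q0 h0 hn a) (1 : AddChar (κ → F) ℂ)) := by
  classical
  rw [← card_kfun (F := F) (κ := κ)]
  exact finrank_shift ρ (f := uM Q0 h0 hn a) (uM_add_right Q0 h0 hn a) hXa (g := uM Q0 h0 hn a') hXa'
    (pr := prW Q0 (bf L a a')) (fun w' w x hx => uM_rel Q0 h0 hn ρ a a' w w' (hXL hx)) (prW_bijective Q0 h0 hc)

include h0 in
theorem finrank_Eg_nondec {L : Module.Dual F (AltM F (k + 1 + 1))} (hL : L ≠ 0) (hD : ¬ Dec L)
    (hne : Eg hn (rhoP Q0 ρ) L ≠ ⊥) : RR F κ * RR F κ ≤ Module.finrank ℂ (Eg hn (rhoP Q0 ρ) L) := by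
  classical
  obtain ⟨a, a', b, b', haa, hbb, hab, hab'⟩ := exists_two_pairs hL hD
  set X := Eg hn (rhoP Q0 ρ) L
  set X1 := X ⊓ RepEigen.eig ρ (uM Q0 h0 hn a) (1 : AddChar (κ → F) ℂ) with hX1
  have h1 := finrank_heis Q0 h0 hn ρ haa (X := X) le_rfl (fun w x hx => uM_map_Eg Q0 h0 hn ρ a w hx)
    (fun w x hx => uM_map_Eg Q0 h0 hn ρ a' w hx)
  have hinv : ∀ c, bf L a c = 0 → ∀ w, ∀ x ∈ X1, ρ (uM Q0 h0 hn c w) x ∈ X1 := fun c hc w x hx => by
    refine Submodule.mem_inf.mpr ⟨uM_map_Eg Q0 h0 hn ρ c w hx.1, (RepEigen.mem_eig ρ).mpr fun v => ?_⟩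
    rw [uM_rel Q0 h0 hn ρ a c v w hx.1, hc, mul_zero, AddChar.map_zero_eq_one, one_smul,
      (RepEigen.mem_eig ρ).mp hx.2 v, map_smul]
  have h2 := finrank_heis Q0 h0 hn ρ hbb (X := X1) inf_le_left (hinv b hab) (hinv b' hab')
  rw [h1, ← hX1, h2, ← mul_assoc]
  refine Nat.le_mul_of_pos_right _ (Nat.pos_of_ne_zero fun h => hne (Submodule.finrank_eq_zero.mp ?_))
  rw [h1, ← hX1, h2, h, mul_zero, mul_zero]

variable (hirr : IsIrr ρ) (hd : 2 ≤ Module.finrank ℂ M)

include h0 hirr hd in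
theorem root_ne_one (hκ : 1 ≤ Fintype.card κ) : ρ (xM Q0 hn (wd (Pi.single 0 1) (Pi.single 1 1))) ≠ 1 := by
  intro h
  have h7 : 7 ≤ Fintype.card ((Fin (k + 1 + 1) ⊕ Fin (k + 1 + 1)) ⊕ κ) := by
    simp only [Fintype.card_sum, Fintype.card_fin]; omega
  have hker : ρ.ker = ⊤ := normal_eq_topM Q0 hn h7 (MonoidHom.mem_ker.mpr h) h0
  haveI : Nontrivial M := Module.nontrivial_of_finrank_pos (by omega : 0 < Module.finrank ℂ M)
  obtain ⟨x, hx0⟩ := exists_ne (0 : M)
  rcases hirr (Submodule.span ℂ {x}) (fun g y hy => by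
    rw [show ρ g = 1 from MonoidHom.mem_ker.mp (hker ▸ Subgroup.mem_top g)]; exact hy) with h1 | h1
  · exact hx0 (Submodule.span_singleton_eq_bot.mp h1)
  · have := finrank_span_singleton (K := ℂ) hx0
    rw [h1, finrank_top] at this
    omega

include h0 hirr hd in
/-- A small representation has the decomposable weights with the minimal multiplicity, and no other. -/
theorem shapeM (hk : 1 ≤ k) (hκ : 1 ≤ Fintype.card κ)
    (hs1 : Module.finrank ℂ M < RR F κ * RR F κ * ((Fintype.card F ^ (k + 1) - 1) * Fintype.card F ^ k))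
    (hs2 : Module.finrank ℂ M <
      2 * (RR F κ * Nat.card {L : Module.Dual F (AltM F (k + 1 + 1)) // Dec L})) :
    Module.finrank ℂ M = ff hn (rhoP Q0 ρ) +
        RR F κ * Nat.card {L : Module.Dual F (AltM F (k + 1 + 1)) // Dec L} ∧
      (∀ L : Module.Dual F (AltM F (k + 1 + 1)), Dec L → Module.finrank ℂ (Eg hn (rhoP Q0 ρ) L) = RR F κ) ∧
      ∀ L : Module.Dual F (AltM F (k + 1 + 1)), L ≠ 0 → ¬ Dec L → Eg hn (rhoP Q0 ρ) L = ⊥ := by
  classical
  set R := RR F κ with hRdef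
  have hz : ∀ L : Module.Dual F (AltM F (k + 1 + 1)), L ≠ 0 → ¬ Dec L → Eg hn (rhoP Q0 ρ) L = ⊥ := by
    intro L hL hD
    by_contra hne
    have ho := orbit_bound hk ((Cfsg.Omega F (⇑(plusForm (k + 1 + 1) F))).comap lvI) (fun g => lvI_mem hn g) hL hD
    have h3 : R * R * ((Fintype.card F ^ (k + 1) - 1) * Fintype.card F ^ k) ≤ Module.finrank ℂ M := by
      refine (Nat.mul_le_mul_left _ ho).trans ?_
      rw [← sum_Eg hn (rhoP Q0 ρ), Nat.card_eq_fintype_card, Fintype.card_subtype, mul_comm, ← smul_eq_mul,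
        ← Finset.sum_const]
      refine (Finset.sum_le_sum fun L' hL' => ?_).trans (Finset.sum_le_sum_of_subset (Finset.subset_univ _))
      obtain ⟨g, hg, rfl⟩ := (Finset.mem_filter.mp hL').2
      rw [finrank_Eg_comp hn (rhoP Q0 ρ) hg]
      exact finrank_Eg_nondec Q0 h0 hn ρ hL hD hne
    omega
  set E := Module.finrank ℂ (Eg hn (rhoP Q0 ρ) (luv (Pi.single 0 1) (Pi.single 1 1) :
    Module.Dual F (AltM F (k + 1 + 1)))) with hE
  set N := Nat.card {L : Module.Dual F (AltM F (k + 1 + 1)) // Dec L} with hN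
  have hdim : Module.finrank ℂ M = ff hn (rhoP Q0 ρ) + N * E := by
    rw [← sum_Eg hn (rhoP Q0 ρ), ← Finset.add_sum_erase _ _ (Finset.mem_univ (0 : Module.Dual F (AltM F (k + 1 + 1)))),
      ← Finset.sum_subset (s₁ := Finset.univ.filter (fun L : Module.Dual F (AltM F (k + 1 + 1)) => Dec L))
        (fun L hL => Finset.mem_erase.mpr ⟨(Finset.mem_filter.mp hL).2.1, Finset.mem_univ _⟩)
        (fun L hL hL' => by
          rw [hz L (Finset.mem_erase.mp hL).1 fun h => hL' (Finset.mem_filter.mpr ⟨Finset.mem_univ _, h⟩), finrank_bot]),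
      Finset.sum_congr rfl fun L hL => finrank_Eg_dec hn (rhoP Q0 ρ) hk (Finset.mem_filter.mp hL).2, Finset.sum_const,
      smul_eq_mul, hN, Nat.card_eq_fintype_card, Fintype.card_subtype]
    rfl
  have hc : bf (luv (Pi.single 0 1) (Pi.single 1 1) : Module.Dual F (AltM F (k + 1 + 1))) (Pi.single 0 1)
      (Pi.single 1 1) ≠ 0 := by
    rw [bf_luv]; simp
  obtain ⟨e, he⟩ : ∃ e, E = R * e := ⟨_, finrank_heis Q0 h0 hn ρ hc
    (X := Eg hn (rhoP Q0 ρ) (luv (Pi.single 0 1) (Pi.single 1 1))) le_rfl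
    (fun w x hx => uM_map_Eg Q0 h0 hn ρ _ w hx) (fun w x hx => uM_map_Eg Q0 h0 hn ρ _ w hx)⟩
  have hE1 : e = 1 := by
    rcases Nat.lt_or_ge e 1 with h | h
    · exfalso
      have he0 : e = 0 := by omega
      rw [he, he0, mul_zero, mul_zero, add_zero] at hdim
      have htop : Eg hn (rhoP Q0 ρ) 0 = ⊤ := Submodule.eq_top_of_finrank_eq hdim.symm
      exact root_ne_one Q0 h0 hn ρ hirr hd hκ (LinearMap.ext fun x => by
        have := (mem_Eg_zero hn (rhoP Q0 ρ)).mp (htop ▸ Submodule.mem_top (x := x)) (wd (Pi.single 0 1) (Pi.single 1 1))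
        exact this)
    · by_contra hne
      have h2 : 2 * (R * N) ≤ N * E := by
        rw [he, show N * (R * e) = e * (R * N) by ring]; exact Nat.mul_le_mul_right _ (by omega)
      omega
  refine ⟨by rw [hdim, he, hE1, mul_one, mul_comm], fun L hL => ?_, hz⟩
  rw [finrank_Eg_dec hn (rhoP Q0 ρ) hk hL, ← hE, he, hE1, mul_one]

end Cfsg.Lib.OrthMinDeg
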