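import Cfsg.Agent.Known.OrthMinDegree.Mixed.Line2

/-! The trace of a root element computed in two ways. -/

set_option autoImplicit false
set_option linter.unusedSectionVars false
set_option linter.style.haveILetI false

open Matrix Cfsg.Lib.Classical Cfsg.Lib.Classical.Refl Cfsg.Lib.Classical.HypQuad Cfsg.Lib.SLMinDeg

namespace Cfsg.Lib.OrthMinDeg

universe u v

variable {F : Type u} [Field F] [Fintype F] {k : ℕ}

/-- The action on alternating matrices as an automorphism of the parameters. -/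
noncomputable def cgE (g : Matrix.SpecialLinearGroup (Fin (k + 1 + 1)) F) : AltM F (k + 1 + 1) ≃+ AltM F (k + 1 + 1) where
  toFun := cg (g : Matrix (Fin (k + 1 + 1)) (Fin (k + 1 + 1)) F)
  invFun := cg ((g⁻¹ : Matrix.SpecialLinearGroup (Fin (k + 1 + 1)) F) : Matrix (Fin (k + 1 + 1)) (Fin (k + 1 + 1)) F)
  left_inv A := by rw [← cg_mul, ← Matrix.SpecialLinearGroup.coe_mul, inv_mul_cancel, Matrix.SpecialLinearGroup.coe_one, cg_one]
  right_inv A := by rw [← cg_mul, ← Matrix.SpecialLinearGroup.coe_mul, mul_inv_cancel, Matrix.SpecialLinearGroup.coe_one, cg_one]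
  map_add' A B := map_add _ A B

theorem chiPull_cgE (g : Matrix.SpecialLinearGroup (Fin (k + 1 + 1)) F) (L : Module.Dual F (AltM F (k + 1 + 1))) :
    chiPull (cgE g) (chi L) = chi (L.comp (cg (g : Matrix (Fin (k + 1 + 1)) (Fin (k + 1 + 1)) F))) := rfl

theorem comp_lineT_iff {c : F} (hc : c ≠ 0) (L : Module.Dual F (AltM F (k + 1 + 1))) :
    L.comp (cg (lineT (k := k) c : Matrix (Fin (k + 1 + 1)) (Fin (k + 1 + 1)) F)) = L ↔
      ∀ j : Fin (k + 1 + 1), j ≠ 0 → bf L (Pi.single 1 1) (Pi.single j 1) = 0 := by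
  have hT : ∀ j : Fin (k + 1 + 1), (lineT (k := k) c : Matrix (Fin (k + 1 + 1)) (Fin (k + 1 + 1)) F) *ᵥ Pi.single j 1 =
      Pi.single j 1 + (c * (Pi.single j 1 : Fin (k + 1 + 1) → F) 0) • Pi.single 1 1 := fun j => by
    rw [lineT, mulVec_transvection, ← Pi.single_smul, smul_eq_mul, mul_one]
  constructor
  · intro h j hj
    have h1 := LinearMap.congr_fun₂ (congrArg bf h) (Pi.single 0 1) (Pi.single j 1)
    rw [bf_comp, hT, hT, Pi.single_eq_same, mul_one, Pi.single_eq_of_ne (Ne.symm hj), mul_zero, zero_smul,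
      add_zero, map_add, map_smul, LinearMap.add_apply, LinearMap.smul_apply, smul_eq_mul, add_eq_left] at h1
    exact (mul_eq_zero.mp h1).resolve_left hc
  · intro h
    refine dual_ext fun i j hij => ?_
    rw [bf_comp, hT, hT]
    simp only [map_add, map_smul, LinearMap.add_apply, LinearMap.smul_apply, smul_eq_mul, bf_self, mul_zero,
      add_zero]
    by_cases hi : i = 0
    · subst hi
      simp [Pi.single_eq_of_ne hij, h j (Ne.symm hij)]
    · rw [Pi.single_eq_of_ne (Ne.symm hi)]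
      by_cases hj : j = 0
      · subst hj
        rw [bf_swap L (Pi.single 1 1) (Pi.single i 1), h i hi]; simp
      · rw [Pi.single_eq_of_ne (Ne.symm hj)]; simp

theorem dec_plucker {L : Module.Dual F (AltM F (k + 1 + 1))} (hL : Dec L) (p r x y : Fin (k + 1 + 1) → F) :
    bf L p r * bf L x y = bf L p x * bf L r y - bf L p y * bf L r x := by
  obtain ⟨-, u, v, rfl⟩ := hL
  simp only [bf_luv]
  ring

/-- The shear attached to a vector supported off the pair. -/
theorem shear_dot (β : Fin k → F) :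
    (Fin.cons 0 (Fin.cons 0 β) : Fin (k + 1 + 1) → F) ⬝ᵥ (Pi.single 1 (1 : F)) = 0 := by
  rw [dotProduct_single, mul_one, show (1 : Fin (k + 1 + 1)) = Fin.succ 0 from rfl, Fin.cons_succ, Fin.cons_zero]

/-- The functionals fixed by the transvection and not vanishing on the pair. -/
noncomputable def Lb (a : F) (β : Fin k → F) : Module.Dual F (AltM F (k + 1 + 1)) :=
  (La a).comp (cg (tv (Pi.single 1 1) (Fin.cons 0 (Fin.cons 0 β)) (shear_dot β) :
    Matrix (Fin (k + 1 + 1)) (Fin (k + 1 + 1)) F))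

theorem bf_Lb (a : F) (β : Fin k → F) (p r : Fin (k + 1 + 1) → F) :
    bf (Lb a β) p r = a * (p 0 * (r 1 + β ⬝ᵥ fun i => r i.succ.succ) - r 0 * (p 1 + β ⬝ᵥ fun i => p i.succ.succ)) := by
  have key : ∀ x : Fin (k + 1 + 1) → F, (Fin.cons 0 (Fin.cons 0 β) : Fin (k + 1 + 1) → F) ⬝ᵥ x =
      β ⬝ᵥ fun i => x i.succ.succ := fun x => by
    conv_lhs => rw [show x = Fin.cons (x 0) (Fin.cons (x 1) fun i => x i.succ.succ) from funext fun i => by
      cases i using Fin.cases with
      | zero => simp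
      | succ i => cases i using Fin.cases <;> simp]
    rw [cons_dot, cons_dot]; ring
  rw [Lb, bf_comp, bf_La, mulVec_tv, mulVec_tv, key, key]
  simp [smul_eq_mul]

theorem Lb_dec (hk : 1 ≤ k) {a : F} (ha : a ≠ 0) (β : Fin k → F) : Dec (Lb a β) :=
  (dec_first.smul ha).comp (g' := ((tv (Pi.single 1 1) (Fin.cons 0 (Fin.cons 0 β)) (shear_dot β) :
    Matrix.SpecialLinearGroup (Fin (k + 1 + 1)) F)⁻¹ : Matrix.SpecialLinearGroup (Fin (k + 1 + 1)) F)) (by
    rw [← Matrix.SpecialLinearGroup.coe_mul, mul_inv_cancel, Matrix.SpecialLinearGroup.coe_one])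

theorem card_fixed_pair (hk : 1 ≤ k) {a : F} (ha : a ≠ 0) :
    Nat.card {L : Module.Dual F (AltM F (k + 1 + 1)) // Dec L ∧
      (∀ j : Fin (k + 1 + 1), j ≠ 0 → bf L (Pi.single 1 1) (Pi.single j 1) = 0) ∧
      bf L (Pi.single 0 1) (Pi.single 1 1) = a} = Fintype.card F ^ k := by
  classical
  rw [show Fintype.card F ^ k = Nat.card (Fin k → F) by rw [Nat.card_eq_fintype_card, Fintype.card_fun, Fintype.card_fin]]
  refine Nat.card_congr
    { toFun := fun L i => a⁻¹ * bf L.1 (Pi.single 0 1) (Pi.single i.succ.succ 1)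
      invFun := fun β => ⟨Lb a β, Lb_dec hk ha β, fun j hj => ?_, ?_⟩
      left_inv := fun L => Subtype.ext ?_
      right_inv := fun β => funext fun i => ?_ }
  · rw [bf_Lb]; simp [Pi.single_eq_of_ne (Ne.symm hj), show (0 : Fin (k + 1 + 1)) ≠ 1 by simp]
  · rw [bf_Lb]
    simp [dotProduct, Fin.ext_iff]
  · refine dual_ext fun x y hxy => ?_
    have hp := dec_plucker L.2.1 (Pi.single 0 1) (Pi.single 1 1) (Pi.single x 1) (Pi.single y 1)
    rw [L.2.2.2] at hp
    have h10 : bf L.1 (Pi.single 1 1) (Pi.single 0 1) = -a := by rw [bf_swap, L.2.2.2]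
    have h0x : ∀ z : Fin (k + 1 + 1), bf L.1 (Pi.single 1 1) (Pi.single z 1) = -a * (Pi.single z 1 : Fin (k + 1 + 1) → F) 0 := fun z => by
      by_cases hz : z = 0
      · subst hz; rw [h10]; simp
      · rw [L.2.2.1 z hz, Pi.single_eq_of_ne (Ne.symm hz), mul_zero]
    have hs : ∀ z : Fin (k + 1 + 1), a * ((Pi.single z 1 : Fin (k + 1 + 1) → F) 1 +
        (fun i : Fin k => a⁻¹ * bf L.1 (Pi.single 0 1) (Pi.single i.succ.succ 1)) ⬝ᵥ
          fun i : Fin k => (Pi.single z 1 : Fin (k + 1 + 1) → F) i.succ.succ) = bf L.1 (Pi.single 0 1) (Pi.single z 1) := fun z => by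
      cases z using Fin.cases with
      | zero => simp [bf_self, dotProduct, Fin.ext_iff]
      | succ z => cases z using Fin.cases with
        | zero => simp [dotProduct, Fin.ext_iff, L.2.2.2, show Fin.succ (0 : Fin (k + 1)) = 1 from rfl]
        | succ z => simp [dotProduct, Pi.single_apply, ha, (Fin.succ_ne_zero _).symm, show ∀ i : Fin (k + 1), (i.succ : Fin (k + 1 + 1)) = 1 ↔ i = 0 from fun i => (Fin.succ_inj (b := 0)), ← mul_assoc]
    have h1x := h0x x
    have h1y := h0x y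
    have hsx := hs x
    have hsy := hs y
    rw [h1x, h1y] at hp
    rw [bf_Lb]
    refine mul_left_cancel₀ ha ?_
    linear_combination -hp + a * (Pi.single x 1 : Fin (k + 1 + 1) → F) 0 * hsy -
      a * (Pi.single y 1 : Fin (k + 1 + 1) → F) 0 * hsx
  · show a⁻¹ * bf (Lb a β) _ _ = β i
    rw [bf_Lb]
    simp [dotProduct, Pi.single_apply, ha, (Fin.succ_ne_zero _).symm, show ∀ i : Fin (k + 1), (i.succ : Fin (k + 1 + 1)) = 1 ↔ i = 0 from fun i => (Fin.succ_inj (b := 0)), ← mul_assoc]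

theorem card_moved :
    Nat.card {L : Module.Dual F (AltM F (k + 1 + 1)) // Dec L ∧
      ¬ ∀ j : Fin (k + 1 + 1), bf L (Pi.single 1 1) (Pi.single j 1) = 0} =
      (Fintype.card F ^ (k + 1) - 1) * Fintype.card F ^ k := by
  classical
  let P := {φ : Fin (k + 1 + 1) → F // φ 1 = 0 ∧ φ ≠ 0}
  have hex : ∀ φ : P, ∃ l, φ.1 l ≠ 0 := fun φ => Function.ne_iff.mp φ.2.2
  choose piv hpiv using hex
  let R := fun φ : P => {r : Fin (k + 1 + 1) → F // r 1 = 1 ∧ r (piv φ) = 0}
  have hR : ∀ φ : P, Nat.card (R φ) = Fintype.card F ^ k := by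
    intro φ
    have hne : piv φ ≠ 1 := fun e => hpiv φ (by rw [e]; exact φ.2.1)
    have e : R φ ≃ ({i : Fin (k + 1 + 1) // i ≠ 1 ∧ i ≠ piv φ} → F) :=
      { toFun := fun r i => r.1 i.1
        invFun := fun s => ⟨fun i => if h1 : i = 1 then 1 else if h2 : i = piv φ then 0 else s ⟨i, h1, h2⟩,
          by simp, by simp [hne]⟩
        left_inv := fun r => Subtype.ext (funext fun i => by
          by_cases h1 : i = 1
          · subst h1; simp [r.2.1]
          by_cases h2 : i = piv φ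
          · subst h2; simp [h1, r.2.2]
          simp [h1, h2])
        right_inv := fun s => funext fun i => by simp [i.2.1, i.2.2] }
    rw [Nat.card_congr e, Nat.card_eq_fintype_card, Fintype.card_fun, Fintype.card_subtype,
      show (Finset.univ.filter fun i : Fin (k + 1 + 1) => i ≠ 1 ∧ i ≠ piv φ) = (Finset.univ.erase 1).erase (piv φ) by
        ext; simp [and_comm],
      Finset.card_erase_of_mem (Finset.mem_erase.mpr ⟨hne, Finset.mem_univ _⟩),
      Finset.card_erase_of_mem (Finset.mem_univ _), Finset.card_univ, Fintype.card_fin]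
    congr 1
  have hP : Nat.card P = Fintype.card F ^ (k + 1) - 1 := by
    have e : P ≃ {s : {i : Fin (k + 1 + 1) // i ≠ 1} → F // s ≠ 0} :=
      { toFun := fun φ => ⟨fun i => φ.1 i.1, fun e => φ.2.2 (funext fun i => by
          by_cases h1 : i = 1
          · subst h1; exact φ.2.1
          · exact congrFun e ⟨i, h1⟩)⟩
        invFun := fun s => ⟨fun i => if h1 : i = 1 then 0 else s.1 ⟨i, h1⟩, by simp, fun e => s.2 (funext fun i => by
          have := congrFun e i.1
          simpa [i.2] using this)⟩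
        left_inv := fun φ => Subtype.ext (funext fun i => by
          by_cases h1 : i = 1
          · subst h1; simp [φ.2.1]
          · simp [h1])
        right_inv := fun s => Subtype.ext (funext fun i => by simp [i.2]) }
    rw [Nat.card_congr e, Nat.card_eq_fintype_card, Fintype.card_subtype_compl, Fintype.card_subtype_eq, Fintype.card_fun,
      Fintype.card_subtype_compl, Fintype.card_subtype_eq, Fintype.card_fin]
    congr 1
  let f : (Σ φ : P, R φ) → {L : Module.Dual F (AltM F (k + 1 + 1)) // Dec L ∧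
      ¬ ∀ j : Fin (k + 1 + 1), bf L (Pi.single 1 1) (Pi.single j 1) = 0} := fun x =>
    have hb : ∀ j, bf (luv x.2.1 x.1.1) (Pi.single 1 1) (Pi.single j 1) = x.1.1 j := fun j => by
      rw [bf_luv]; simp [dotProduct_single, x.2.2.1, x.1.2.1]
    ⟨luv x.2.1 x.1.1, ⟨fun e => x.1.2.2 (funext fun j => by rw [← hb, e]; simp [bf_apply]), _, _, rfl⟩,
      fun h => x.1.2.2 (funext fun j => by rw [← hb]; exact h j)⟩
  have hbij : Function.Bijective f := by
    constructor
    · rintro ⟨φ, r⟩ ⟨φ', r'⟩ e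
      have e' : luv r.1 φ.1 = luv r'.1 φ'.1 := congrArg Subtype.val e
      have hφ : φ = φ' := Subtype.ext (funext fun j => by
        have := LinearMap.congr_fun₂ (congrArg bf e') (Pi.single 1 1) (Pi.single j 1)
        rw [bf_luv, bf_luv] at this
        simpa [dotProduct_single, r.2.1, r'.2.1, φ.2.1, φ'.2.1] using this)
      subst hφ
      have hr : r = r' := Subtype.ext (funext fun j => by
        have := LinearMap.congr_fun₂ (congrArg bf e') (Pi.single j 1) (Pi.single (piv φ) 1)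
        rw [bf_luv, bf_luv] at this
        simp only [dotProduct_single, mul_one, r.2.2, r'.2.2, zero_mul, sub_zero] at this
        exact mul_right_cancel₀ (hpiv φ) this)
      rw [hr]
    · rintro ⟨L, hL, hne⟩
      set φ : P := ⟨fun j => bf L (Pi.single 1 1) (Pi.single j 1), bf_self _ _, fun e => hne fun j => congrFun e j⟩
      set w : Fin (k + 1 + 1) → F := (φ.1 (piv φ))⁻¹ • Pi.single (piv φ) 1 with hw
      have h1w : bf L (Pi.single 1 1) w = 1 := by
        rw [hw, map_smul, smul_eq_mul]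
        exact inv_mul_cancel₀ (hpiv φ)
      refine ⟨⟨φ, ⟨fun j => -bf L w (Pi.single j 1), ?_, ?_⟩⟩, Subtype.ext (dual_ext fun x y _ => ?_)⟩
      · show -bf L w _ = 1
        rw [bf_swap, h1w]; simp
      · show -bf L w (Pi.single (piv φ) 1) = 0
        rw [hw, map_smul, LinearMap.smul_apply, bf_self, smul_zero, neg_zero]
      · show bf (luv _ φ.1) _ _ = _
        have hp := dec_plucker hL (Pi.single 1 1) w (Pi.single x 1) (Pi.single y 1)
        rw [h1w, one_mul] at hp
        rw [bf_luv, hp]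
        simp [dotProduct_single, φ]
        ring
  rw [← Nat.card_congr (Equiv.ofBijective f hbij), Nat.card_sigma, Finset.sum_congr rfl fun φ _ => hR φ,
    Finset.sum_const, Finset.card_univ, ← Nat.card_eq_fintype_card, hP, smul_eq_mul]

variable {κ : Type} [Fintype κ] [DecidableEq κ]
  (Q0 : QuadraticForm F (κ → F)) (h0 : (QuadraticMap.polarBilin Q0).Nondegenerate)
  {M : Type v} [AddCommGroup M] [Module ℂ M] [FiniteDimensional ℂ M] (hn : 3 ≤ k + 1 + 1)
  (ρ : OmM (k + 1 + 1) Q0 →* Module.End ℂ M)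

/-- The basic root element. -/
noncomputable def x01 : OmM (k + 1 + 1) Q0 := xM Q0 hn (wd (Pi.single 0 1) (Pi.single 1 1))

include h0 in
theorem isConj_lineT (hκ : 1 ≤ Fintype.card κ) {c : F} (hc : c ≠ 0) :
    IsConj (x01 (k := k) Q0 hn) (lvM Q0 hn (lineT c)) := by
  have h7 : 7 ≤ Fintype.card ((Fin (k + 1 + 1) ⊕ Fin (k + 1 + 1)) ⊕ κ) := by
    simp only [Fintype.card_sum, Fintype.card_fin]; omega
  set u : (Fin (k + 1 + 1) ⊕ Fin (k + 1 + 1)) ⊕ κ → F := inLp (Pi.single 1 (-c)) with hu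
  set z : (Fin (k + 1 + 1) ⊕ Fin (k + 1 + 1)) ⊕ κ → F := Sum.elim (inR (Pi.single 0 1)) 0 with hz
  have hp : QuadraticMap.polar (⇑(mixForm (k + 1 + 1) Q0)) u z = 0 := by
    rw [hu, hz, inLp, polar_mix, Sum.elim_comp_inl, Sum.elim_comp_inl, Sum.elim_comp_inr, Sum.elim_comp_inr,
      polar_inL_inR, single_dotProduct, Pi.single_eq_of_ne (by simp), mul_zero, QuadraticMap.polar_zero_right, add_zero]
  have hQz : mixForm (k + 1 + 1) Q0 z = 0 := by rw [hz, mix_elim, plus_inR, map_zero, add_zero]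
  obtain ⟨g, hgu, hgz⟩ := exists_moveM Q0 (u := inLp (Pi.single 1 1)) (z := inLp (Pi.single 0 1)) (z' := z)
    (mix_inLp Q0 _) (u' := u) (mix_inLp Q0 _) (by rw [mix_inLp, hQz]) (polar_Lp_Lp Q0 _ _) hp
    (fun e => one_ne_zero (α := F) (by simpa [inLp, inL] using congrFun e (Sum.inl (Sum.inl 1))))
    (fun e => hc (by simpa [hu, inLp, inL] using congrFun e (Sum.inl (Sum.inl 1))))
    single_indep
    (fun h => by
      obtain ⟨t, ht⟩ := Submodule.mem_span_singleton.mp h
      have := congrFun ht (Sum.inl (Sum.inr 0))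
      simp [hu, hz, inLp, inL, inR] at this) h7 h0
  refine isConj_iff.mpr ⟨g, ?_⟩
  rw [lineT, lvM_transvection Q0 h0 hn _ c hp, x01, xM_wd Q0 h0 hn]
  exact Subtype.ext (sgM_conj Q0 h0 hn _ hgu hgz)

variable (hk : 1 ≤ k)
  (hdim : Module.finrank ℂ M = ff hn (rhoP Q0 ρ) +
    RR F κ * Nat.card {L : Module.Dual F (AltM F (k + 1 + 1)) // Dec L})
  (hdec : ∀ L : Module.Dual F (AltM F (k + 1 + 1)), Dec L → Module.finrank ℂ (Eg hn (rhoP Q0 ρ) L) = RR F κ)
  (hz : ∀ L : Module.Dual F (AltM F (k + 1 + 1)), L ≠ 0 → ¬ Dec L → Eg hn (rhoP Q0 ρ) L = ⊥)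

include hk hdim hdec hz

theorem trace_x01 : LinearMap.trace ℂ M (ρ (x01 (k := k) Q0 hn)) =
    (Module.finrank ℂ M : ℂ) - (RR F κ : ℂ) * (Fintype.card F : ℂ) ^ (2 * k + 1) := by
  classical
  rw [x01, trace_eig ρ (f := xM Q0 hn) (xM_add Q0 hn), ← Function.Bijective.sum_comp chi_bijective]
  set v : Module.Dual F (AltM F (k + 1 + 1)) → F := fun L => bf L (Pi.single 0 1) (Pi.single 1 1)
  have hterm : ∀ L : Module.Dual F (AltM F (k + 1 + 1)),
      chi L (wd (Pi.single 0 1) (Pi.single 1 1)) * (Module.finrank ℂ (RepEigen.eig ρ (xM Q0 hn) (chi L)) : ℂ) =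
        (if L = 0 then (ff hn (rhoP Q0 ρ) : ℂ) else 0) + (if Dec L then (RR F κ : ℂ) * psi0 (v L) else 0) := fun L => by
    change _ * (Module.finrank ℂ (Eg hn (rhoP Q0 ρ) L) : ℂ) = _
    by_cases hL : L = 0
    · subst hL
      rw [if_pos rfl, if_neg (fun h => h.1 rfl), chi_zero, AddChar.one_apply, one_mul, add_zero]; rfl
    rw [if_neg hL, zero_add]
    by_cases hD : Dec L
    · rw [if_pos hD, hdec L hD, chi_apply, mul_comm]; rfl
    · rw [if_neg hD, hz L hL hD, finrank_bot, Nat.cast_zero, mul_zero]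
  rw [Finset.sum_congr rfl fun L _ => hterm L, Finset.sum_add_distrib, Finset.sum_ite_eq', if_pos (Finset.mem_univ _),
    ← Finset.sum_filter, ← Finset.mul_sum]
  set D := Finset.univ.filter (fun L : Module.Dual F (AltM F (k + 1 + 1)) => Dec L) with hDdef
  have hfib : ∀ c : F, (D.filter fun L => v L = c).card = Nat.card (DecC F k c) := fun c => by
    unfold DecC
    rw [Nat.card_eq_fintype_card, Fintype.card_subtype, hDdef, Finset.filter_filter]
  have hcard : D.card = Nat.card {L : Module.Dual F (AltM F (k + 1 + 1)) // Dec L} := by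
    rw [Nat.card_eq_fintype_card, Fintype.card_subtype]
  have e1 : ∑ L ∈ D, psi0 (v L) = ∑ c : F, (Nat.card (DecC F k c) : ℂ) * psi0 c := by
    rw [← Finset.sum_fiberwise D v]
    refine Finset.sum_congr rfl fun c _ => ?_
    rw [Finset.sum_congr rfl (fun L hL => by rw [(Finset.mem_filter.mp hL).2]), Finset.sum_const, hfib, nsmul_eq_mul]
  have e2 : (D.card : ℂ) = ∑ c : F, (Nat.card (DecC F k c) : ℂ) := by
    simp only [← hfib]
    rw [← Nat.cast_sum, ← Finset.card_eq_sum_card_fiberwise (f := v) (t := Finset.univ) (fun _ _ => Finset.mem_univ _)]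
  have hQ : ∀ c : F, c ≠ 0 → (Nat.card (DecC F k c) : ℂ) = (Fintype.card F : ℂ) ^ (2 * k) := fun c hc => by
    rw [card_decC hc, Nat.cast_pow]
  have hpsi : ∑ c : F, psi0 c = (0 : ℂ) :=
    AddChar.sum_eq_zero_of_ne_one fun h => psi0_primitive (F := F) one_ne_zero (by simpa using h)
  have e3 : ∑ c : F, (Nat.card (DecC F k c) : ℂ) * psi0 c =
      (D.card : ℂ) - (Fintype.card F : ℂ) ^ (2 * k + 1) := by
    rw [e2, ← Finset.add_sum_erase _ _ (Finset.mem_univ (0 : F)), ← Finset.add_sum_erase _ (fun c => (Nat.card (DecC F k c) : ℂ))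
      (Finset.mem_univ (0 : F)), Finset.sum_congr rfl (fun c hc => by rw [hQ c (Finset.ne_of_mem_erase hc)]),
      ← Finset.mul_sum, Finset.sum_erase_eq_sub (Finset.mem_univ _), hpsi,
      Finset.sum_congr rfl (fun c hc => hQ c (Finset.ne_of_mem_erase hc)), Finset.sum_const,
      Finset.card_erase_of_mem (Finset.mem_univ _), Finset.card_univ, nsmul_eq_mul,
      Nat.cast_sub Fintype.card_pos, Nat.cast_one, AddChar.map_zero_eq_one, pow_succ]
    ring
  rw [e1, e3, hcard, hdim, Nat.cast_add, Nat.cast_mul]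
  ring

variable (htriv : Triv Q0 h0 hn ρ 1) (hperf : commutator (Matrix.SpecialLinearGroup (Fin k) F) = ⊤)

include htriv hperf

theorem trP_rad {c : F} {L : Module.Dual F (AltM F (k + 1 + 1))} (hL : Dec L)
    (hrad : ∀ j : Fin (k + 1 + 1), bf L (Pi.single 1 1) (Pi.single j 1) = 0) :
    trP ρ (xM Q0 hn) (lvM Q0 hn (lineT c)) (chi L) = (RR F κ : ℂ) := by
  classical
  obtain ⟨g, rfl⟩ := exists_dec_move hk hL
  rw [← chiPull_cgE, ← trP_conj ρ (cgE g) (fun A => lvM_conj_x Q0 hn g A), ← map_inv, ← map_mul, ← map_mul]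
  set u := (g : Matrix (Fin (k + 1 + 1)) (Fin (k + 1 + 1)) F) *ᵥ (Pi.single 1 1 : Fin (k + 1 + 1) → F) with hu
  have hrad' : ∀ b : Fin (k + 1 + 1) → F, bf (luv (Pi.single 0 1) (Pi.single 1 1)) u
      ((g : Matrix (Fin (k + 1 + 1)) (Fin (k + 1 + 1)) F) *ᵥ b) = 0 := fun b => by
    rw [hu, ← bf_comp, ← Finset.univ_sum_single b, map_sum]
    refine Finset.sum_eq_zero fun j _ => ?_
    rw [show (Pi.single j (b j) : Fin (k + 1 + 1) → F) = b j • Pi.single j 1 by
      rw [← Pi.single_smul, smul_eq_mul, mul_one], map_smul, hrad j, smul_zero]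
  have hu' : ∀ y : Fin (k + 1 + 1) → F, bf (luv (Pi.single 0 1) (Pi.single 1 1)) u y = 0 := fun y => by
    have := hrad' (((g⁻¹ : Matrix.SpecialLinearGroup (Fin (k + 1 + 1)) F) : Matrix (Fin (k + 1 + 1)) (Fin (k + 1 + 1)) F) *ᵥ y)
    rwa [mulVec_mulVec, ← Matrix.SpecialLinearGroup.coe_mul, mul_inv_cancel, Matrix.SpecialLinearGroup.coe_one,
      one_mulVec] at this
  have hu0 : u 0 = 0 := by
    have := hu' (Pi.single 1 1)
    rw [bf_luv] at this; simpa [single_dotProduct] using this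
  have hu1 : u 1 = 0 := by
    have := hu' (Pi.single 0 1)
    rw [bf_luv] at this; simpa [single_dotProduct] using this
  obtain ⟨φ, hφ, e⟩ : ∃ φ h, g * lineT c * g⁻¹ = tv u φ h := by
    rw [lineT, ← tv_single (show (1 : Fin (k + 1 + 1)) ≠ 0 by simp) c (single_dot_single (by simp) _ _), tv_conj]
    exact ⟨_, _, rfl⟩
  have hone : La (k := k) (1 : F) = luv (Pi.single 0 1) (Pi.single 1 1) := one_smul _ _
  rw [e, trP_scalar ρ (xM_add Q0 hn) (c := 1) (fun x hx => by
    rw [one_smul]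
    exact tv_rad_mem Q0 h0 hn ρ hdec one_ne_zero htriv hperf hu0 hu1 hφ x (by rw [← hone] at hx; exact hx)), one_mul,
    ← EgM_eq, hdec _ dec_first]

omit htriv hperf

theorem trP_pair {c a : F} (ha : a ≠ 0) (β : Fin k → F) :
    trP ρ (xM Q0 hn) (lvM Q0 hn (lineT c)) (chi (Lb a β)) =
      trP ρ (xM Q0 hn) (lvM Q0 hn (lineT c)) (chi (La a)) := by
  rw [Lb, ← chiPull_cgE, ← trP_conj ρ (cgE _) (fun A => lvM_conj_x Q0 hn _ A), ← map_inv, ← map_mul, ← map_mul]
  congr 2
  rw [mul_inv_eq_iff_eq_mul]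
  have h1 : (Pi.single 0 c : Fin (k + 1 + 1) → F) ⬝ᵥ Pi.single 1 (1 : F) = 0 := single_dot_single (by simp) _ _
  rw [lineT, ← tv_single (show (1 : Fin (k + 1 + 1)) ≠ 0 by simp) c h1, ← tv_add_right (shear_dot β) h1,
    ← tv_add_right h1 (shear_dot β)]
  exact tv_congr rfl (add_comm _ _)

include htriv hperf

/-- The trace of the transvection, by weights. -/
theorem trace_lineT [DecidableEq F] {c : F} (hc : c ≠ 0) {val : F → ℂ}
    (hval : ∀ a : F, a ≠ 0 → trP ρ (xM Q0 hn) (lvM Q0 hn (lineT c)) (chi (La a)) = val a) :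
    LinearMap.trace ℂ M (ρ (lvM Q0 hn (lineT c))) = trP ρ (xM Q0 hn) (lvM Q0 hn (lineT c)) (chi 0) +
      (RR F κ : ℂ) * ((Nat.card {L : Module.Dual F (AltM F (k + 1 + 1)) // Dec L} : ℂ) -
        (((Fintype.card F : ℂ) ^ (k + 1) - 1) * (Fintype.card F : ℂ) ^ k)) +
      (Fintype.card F : ℂ) ^ k * ∑ a ∈ Finset.univ.erase (0 : F), val a := by
  classical
  rw [trace_eq_sum_trP ρ (xM_add Q0 hn), ← Function.Bijective.sum_comp chi_bijective]
  set T := lvM Q0 hn (lineT (k := k) c)
  let rad := fun L : Module.Dual F (AltM F (k + 1 + 1)) => ∀ j : Fin (k + 1 + 1), bf L (Pi.single 1 1) (Pi.single j 1) = 0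
  let fix' := fun L : Module.Dual F (AltM F (k + 1 + 1)) => ∀ j : Fin (k + 1 + 1), j ≠ 0 → bf L (Pi.single 1 1) (Pi.single j 1) = 0
  set v : Module.Dual F (AltM F (k + 1 + 1)) → F := fun L => bf L (Pi.single 0 1) (Pi.single 1 1)
  have hterm : ∀ L, trP ρ (xM Q0 hn) T (chi L) = (if L = 0 then trP ρ (xM Q0 hn) T (chi 0) else 0) +
      ((if Dec L ∧ rad L then (RR F κ : ℂ) else 0) + (if Dec L ∧ fix' L ∧ v L ≠ 0 then val (v L) else 0)) := by
    intro L
    by_cases hL : L = 0
    · subst hL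
      rw [if_pos rfl, if_neg (fun h => h.1.1 rfl), if_neg (fun h => h.1.1 rfl), add_zero, add_zero]
    rw [if_neg hL, zero_add]
    by_cases hD : Dec L
    swap
    · rw [if_neg (fun h => hD h.1), if_neg (fun h => hD h.1), add_zero, trP_scalar ρ (xM_add Q0 hn) (c := 0)
        (fun x hx => by
          have : x ∈ Eg hn (rhoP Q0 ρ) L := hx
          rw [hz L hL hD, Submodule.mem_bot] at this
          rw [this, map_zero, smul_zero]), zero_mul]
    by_cases hf : fix' L
    swap
    · rw [if_neg (fun h => hf fun j _ => h.2 j), if_neg (fun h => hf h.2.1), add_zero]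
      refine trP_eq_zero ρ (xM_add Q0 hn) (cgE _) (fun A => lvM_conj_x Q0 hn _ A) ?_
      rw [chiPull_cgE]
      exact fun e => hf ((comp_lineT_iff hc L).mp (chi_injective e))
    by_cases hr : rad L
    · rw [if_pos ⟨hD, hr⟩, if_neg, add_zero]
      · exact trP_rad Q0 h0 hn ρ hk hdim hdec hz htriv hperf hD hr
      · rintro ⟨-, -, h⟩
        exact h (by rw [show v L = -bf L (Pi.single 1 1) (Pi.single 0 1) from bf_swap _ _ _, hr 0, neg_zero])
    · have hv : v L ≠ 0 := fun h => hr fun j => by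
        by_cases hj : j = 0
        · subst hj; rw [bf_swap, show bf L (Pi.single 0 1) (Pi.single 1 1) = 0 from h, neg_zero]
        · exact hf j hj
      rw [if_neg (fun h => hr h.2), if_pos ⟨hD, hf, hv⟩, zero_add, ← hval _ hv]
      obtain ⟨β, hβ⟩ : ∃ β, L = Lb (v L) β := by
        have hc' := card_fixed_pair (F := F) (k := k) hk hv
        let f : (Fin k → F) → {M : Module.Dual F (AltM F (k + 1 + 1)) // Dec M ∧ fix' M ∧ v M = v L} := fun β =>
          ⟨Lb (v L) β, Lb_dec hk hv β, fun j hj => by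
            rw [bf_Lb]; simp [Pi.single_eq_of_ne (Ne.symm hj), show (0 : Fin (k + 1 + 1)) ≠ 1 by simp],
            by simp only [v, bf_Lb]; simp [dotProduct, Fin.ext_iff]⟩
        have hinj : Function.Injective f := fun β β' e => funext fun i => by
          have h := LinearMap.congr_fun₂ (congrArg bf (congrArg Subtype.val e)) (Pi.single 0 1) (Pi.single i.succ.succ 1)
          simp only [f, bf_Lb] at h
          simpa [dotProduct, Pi.single_apply, (Fin.succ_ne_zero _).symm, show ∀ i : Fin (k + 1), (i.succ : Fin (k + 1 + 1)) = 1 ↔ i = 0 from fun i => (Fin.succ_inj (b := 0)), hv] using h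
        have hb : Function.Bijective f := (Nat.bijective_iff_injective_and_card f).mpr ⟨hinj, by
          rw [hc', Nat.card_eq_fintype_card, Fintype.card_fun, Fintype.card_fin]⟩
        obtain ⟨β, hβ⟩ := hb.2 ⟨L, hD, hf, rfl⟩
        exact ⟨β, (congrArg Subtype.val hβ).symm⟩
      conv_lhs => rw [hβ]
      exact trP_pair Q0 hn ρ hk hdim hdec hz hv β
  rw [Finset.sum_congr rfl fun L _ => hterm L, Finset.sum_add_distrib, Finset.sum_add_distrib, Finset.sum_ite_eq',
    if_pos (Finset.mem_univ _), ← Finset.sum_filter, ← Finset.sum_filter, Finset.sum_const, nsmul_eq_mul,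
    ← add_assoc]
  have hA : ((Finset.univ.filter fun L => Dec L ∧ rad L).card : ℂ) =
      (Nat.card {L : Module.Dual F (AltM F (k + 1 + 1)) // Dec L} : ℂ) -
        (((Fintype.card F : ℂ) ^ (k + 1) - 1) * (Fintype.card F : ℂ) ^ k) := by
    have h1 := Finset.card_filter_add_card_filter_not (s := Finset.univ.filter fun L : Module.Dual F (AltM F (k + 1 + 1)) => Dec L) rad
    rw [Finset.filter_filter, Finset.filter_filter] at h1
    have h2 : (Finset.univ.filter fun L : Module.Dual F (AltM F (k + 1 + 1)) => Dec L ∧ ¬ rad L).card =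
        (Fintype.card F ^ (k + 1) - 1) * Fintype.card F ^ k := by
      rw [← card_moved, Nat.card_eq_fintype_card, Fintype.card_subtype]
    rw [Nat.card_eq_fintype_card, Fintype.card_subtype, ← h1, h2, Nat.cast_add, Nat.cast_mul,
      Nat.cast_sub (Nat.one_le_pow _ _ Fintype.card_pos)]
    push_cast; ring
  rw [hA, mul_comm _ (RR F κ : ℂ)]
  congr 1
  set S := Finset.univ.filter fun L => Dec L ∧ fix' L ∧ v L ≠ 0
  rw [← Finset.sum_fiberwise_of_maps_to (s := S) (t := Finset.univ.erase (0 : F)) (g := v)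
    (fun L hL => Finset.mem_erase.mpr ⟨(Finset.mem_filter.mp hL).2.2.2, Finset.mem_univ _⟩), Finset.mul_sum]
  refine Finset.sum_congr rfl fun a ha => ?_
  have ha' := Finset.ne_of_mem_erase ha
  rw [Finset.sum_congr rfl (fun L hL => by rw [(Finset.mem_filter.mp hL).2]), Finset.sum_const, nsmul_eq_mul]
  congr 1
  rw [← Nat.cast_pow]
  congr 1
  rw [← card_fixed_pair hk ha', Nat.card_eq_fintype_card, Fintype.card_subtype, Finset.filter_filter]
  refine congrArg Finset.card (Finset.filter_congr fun L _ => ?_)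
  exact ⟨fun h => ⟨h.1.1, h.1.2.1, h.2⟩, fun h => ⟨⟨h.1, h.2.1, fun e => ha' (h.2.2.symm.trans e)⟩, h.2.2⟩⟩

include h0 in
/-- The defect of the transvection on the fixed space of the radical's centre. -/
theorem diff_lineT [DecidableEq F] (hκ : 1 ≤ Fintype.card κ) {c : F} (hc : c ≠ 0) {val : F → ℂ}
    (hval : ∀ a : F, a ≠ 0 → trP ρ (xM Q0 hn) (lvM Q0 hn (lineT c)) (chi (La a)) = val a) :
    (ff hn (rhoP Q0 ρ) : ℂ) - trP ρ (xM Q0 hn) (lvM Q0 hn (lineT c)) (chi 0) =
      (Fintype.card F : ℂ) ^ k * ((RR F κ : ℂ) + ∑ a ∈ Finset.univ.erase (0 : F), val a) := by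
  have h1 := trace_x01 Q0 hn ρ hk hdim hdec hz
  rw [trace_eq_of_isConj ρ (isConj_lineT Q0 h0 hn hκ hc), trace_lineT Q0 h0 hn ρ hk hdim hdec hz htriv hperf hc hval,
    hdim, Nat.cast_add, Nat.cast_mul, pow_succ, two_mul, pow_add] at h1
  rw [pow_succ] at *
  linear_combination -h1

end Cfsg.Lib.OrthMinDeg
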