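import Cfsg.Agent.Known.OrthMinDegree.Mixed.Lower
import Cfsg.Agent.Chars.Values
import Cfsg.Agent.Chars.Count

/-! The representation twisted by the exchange of a pair, and the unipotent radical on small fixed spaces. -/

set_option autoImplicit false
set_option linter.unusedSectionVars false
set_option linter.style.haveILetI false

open Matrix Cfsg.Lib.Classical Cfsg.Lib.Classical.Refl Cfsg.Lib.Classical.HypQuad Cfsg.Lib.SLMinDeg

namespace Cfsg.Lib.OrthMinDeg

universe u v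

variable {F : Type u} [Field F] [Fintype F] {k : ℕ} {κ : Type} [Fintype κ] [DecidableEq κ]
  (Q0 : QuadraticForm F (κ → F))

/-- Conjugation by the exchange of the first pair. -/
noncomputable def sigM : OmM (k + 1 + 1) Q0 ≃* OmM (k + 1 + 1) Q0 := MulAut.conjNormal (embP Q0 swp)

theorem sigM_embG (g : OmP F (k + 1 + 1)) : sigM Q0 (embG Q0 g) = embG Q0 (sig g) := by
  refine Subtype.ext ?_
  show embP Q0 swp * embP Q0 g.1 * (embP Q0 swp)⁻¹ = embP Q0 (swp * g.1 * swp⁻¹)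
  rw [map_mul, map_mul, map_inv]

theorem sigM_sigM (g : OmM (k + 1 + 1) Q0) : sigM Q0 (sigM Q0 g) = g := by
  have h2 : (swp : Cfsg.isometryGroup F (⇑(plusForm (k + 1 + 1) F))) * swp = 1 := ext_mulVec _ fun x => by
    show mat _ (swp * swp) *ᵥ x = mat _ 1 *ᵥ x
    rw [mat_mul', ← mulVec_mulVec, mat_swp, mat_swp, show mat (plusForm (k + 1 + 1) F) 1 = 1 from rfl, one_mulVec]
    funext i
    simp
  refine Subtype.ext ?_
  show embP Q0 swp * (embP Q0 swp * g.1 * (embP Q0 swp)⁻¹) * (embP Q0 swp)⁻¹ = g.1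
  rw [show embP Q0 swp * (embP Q0 swp * g.1 * (embP Q0 swp)⁻¹) * (embP Q0 swp)⁻¹ =
    (embP Q0 swp * embP Q0 swp) * g.1 * (embP Q0 swp * embP Q0 swp)⁻¹ by group, ← map_mul, h2, map_one]
  group

variable {M : Type v} [AddCommGroup M] [Module ℂ M] [FiniteDimensional ℂ M] (hn : 3 ≤ k + 1 + 1)
  (ρ : OmM (k + 1 + 1) Q0 →* Module.End ℂ M)

/-- The twisted representation. -/
noncomputable def twM : OmM (k + 1 + 1) Q0 →* Module.End ℂ M := ρ.comp (sigM Q0).toMonoidHom

theorem twM_apply (g : OmM (k + 1 + 1) Q0) : twM Q0 ρ g = ρ (sigM Q0 g) := rfl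

theorem rhoP_twM : rhoP Q0 (twM Q0 ρ) = twist (rhoP Q0 ρ) := MonoidHom.ext fun g => by
  rw [rhoP_apply, twM_apply, sigM_embG, twist_apply, rhoP_apply]

theorem twM_irr (hirr : IsIrr ρ) : IsIrr (twM Q0 ρ) := fun U hU => hirr U fun g x hx => by
  have := hU (sigM Q0 g) x hx
  rwa [twM_apply, sigM_sigM] at this

variable (h0 : (QuadraticMap.polarBilin Q0).Nondegenerate)

include h0 in
/-- The radical acts trivially on a small fixed space. -/
theorem uM_trivial (hf : ff hn (rhoP Q0 ρ) + 1 < Fintype.card F ^ (k + 1 + 1)) (a : Fin (k + 1 + 1) → F) (w : κ → F)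
    {x : M} (hx : x ∈ Eg hn (rhoP Q0 ρ) 0) : ρ (uM Q0 h0 hn a w) x = x := by
  classical
  set W := Eg hn (rhoP Q0 ρ) 0
  have hmap : ∀ b, ∀ y ∈ W, ρ (uM Q0 h0 hn b w) y ∈ W := fun b y hy => uM_map_Eg Q0 h0 hn ρ b w hy
  have hU0 : uM Q0 h0 hn (0 : Fin (k + 1 + 1) → F) w = 1 := by
    rw [← zero_smul F (0 : Fin (k + 1 + 1) → F), uM_smul_left, zero_smul]
    exact hom_zero (uM_add_right Q0 h0 hn _)
  let U : Multiplicative (Fin (k + 1 + 1) → F) →* Module.End ℂ W :=
    { toFun := fun b => (ρ (uM Q0 h0 hn b.toAdd w)).restrict (hmap _)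
      map_one' := LinearMap.ext fun y => Subtype.ext (by
        show ρ (uM Q0 h0 hn 0 w) (y : M) = y
        rw [hU0, map_one, Module.End.one_apply])
      map_mul' := fun b c => LinearMap.ext fun y => Subtype.ext (by
        show ρ (uM Q0 h0 hn (b.toAdd + c.toAdd) w) (y : M) = ρ (uM Q0 h0 hn b.toAdd w) (ρ (uM Q0 h0 hn c.toAdd w) (y : M))
        rw [uM_add_left, map_mul, map_mul, Module.End.mul_apply, Module.End.mul_apply]
        have := (mem_EgM Q0 hn ρ).mp (hmap b.toAdd _ (hmap c.toAdd _ y.2)) (Q0 w • wd b.toAdd c.toAdd)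
        rwa [LinearMap.zero_apply, AddChar.map_zero_eq_one, one_smul] at this) }
  set f : (Fin (k + 1 + 1) → F) → Multiplicative (Fin (k + 1 + 1) → F) := fun b => Multiplicative.ofAdd b
  have hfh : ∀ b c, f (b + c) = f b * f c := fun _ _ => rfl
  set e0 : Fin (k + 1 + 1) → F := Pi.single 0 1
  set τ := LinearMap.trace ℂ W (U (f e0))
  have hτ : ∀ b, b ≠ 0 → LinearMap.trace ℂ W (U (f b)) = τ := by
    intro b hb
    obtain ⟨g, hg⟩ := exists_mulVec_eq hb 0 ⟨1, by simp⟩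
    have hmg : ∀ (g : Matrix.SpecialLinearGroup (Fin (k + 1 + 1)) F), ∀ y ∈ W, ρ (lvM Q0 hn g) y ∈ W :=
      fun g y hy => lvM_map_zero Q0 hn ρ g hy
    set A := (ρ (lvM Q0 hn g)).restrict (hmg g)
    set B := (ρ (lvM Q0 hn g⁻¹)).restrict (hmg g⁻¹)
    have e : U (f b) = A * U (f e0) * B := LinearMap.ext fun y => Subtype.ext (by
      show ρ (uM Q0 h0 hn b w) (y : M) = ρ (lvM Q0 hn g) (ρ (uM Q0 h0 hn e0 w) (ρ (lvM Q0 hn g⁻¹) (y : M)))
      rw [← Module.End.mul_apply, ← Module.End.mul_apply, ← map_mul, ← map_mul, map_inv, lvM_conj_u, hg])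
    have hBA : B * A = 1 := LinearMap.ext fun y => Subtype.ext (by
      show ρ (lvM Q0 hn g⁻¹) (ρ (lvM Q0 hn g) (y : M)) = y
      rw [← Module.End.mul_apply, ← map_mul, ← map_mul, inv_mul_cancel, map_one, map_one, Module.End.one_apply])
    rw [e, LinearMap.trace_mul_comm, ← mul_assoc, hBA, one_mul]
  have h := finrank_eig_one_of_trace U hfh hτ
  set F0 := Module.finrank ℂ (RepEigen.eig U f (1 : AddChar (Fin (k + 1 + 1) → F) ℂ))
  set X := Fintype.card (Fin (k + 1 + 1) → F)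
  have hX : X = Fintype.card F ^ (k + 1 + 1) := by simp [X, Fintype.card_fun]
  rw [show Module.finrank ℂ W = ff hn (rhoP Q0 ρ) from rfl] at h
  set n := ff hn (rhoP Q0 ρ)
  have hX1 : 1 < X := by rw [hX]; omega
  have hF0 : F0 ≤ n := Submodule.finrank_le _
  have hτi : IsIntegral ℤ τ := Cfsg.Lib.Chars.isIntegral_character (U : Representation ℂ _ W) (f e0)
  have hne : ((X : ℂ) - 1) ≠ 0 := by
    rw [sub_ne_zero]; exact_mod_cast hX1.ne'
  have hτq : τ = ((((X : ℚ) * F0 - n) / ((X : ℚ) - 1) : ℚ) : ℂ) := by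
    push_cast
    rw [eq_div_iff hne]
    linear_combination -h
  rw [hτq] at hτi
  obtain ⟨z, hz⟩ := Cfsg.Lib.Chars.int_of_isIntegral_rat hτi
  rw [div_eq_iff (by rw [sub_ne_zero]; exact_mod_cast hX1.ne')] at hz
  have hz' : (X : ℤ) * F0 - n = z * ((X : ℤ) - 1) := by exact_mod_cast hz
  have hd : ((X : ℤ) - 1) ∣ ((n : ℤ) - F0) := ⟨(F0 : ℤ) - z, by linear_combination -hz'⟩
  have heq : F0 = n := by
    by_contra hne'
    have := Int.le_of_dvd (by omega) hd
    omega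
  have htop : RepEigen.eig U f (1 : AddChar (Fin (k + 1 + 1) → F) ℂ) = ⊤ := Submodule.eq_top_of_finrank_eq heq
  have h1 := (RepEigen.mem_eig U).mp (htop ▸ Submodule.mem_top : (⟨x, hx⟩ : W) ∈ RepEigen.eig U f 1) a
  rw [AddChar.one_apply, one_smul] at h1
  exact congrArg Subtype.val h1

end Cfsg.Lib.OrthMinDeg
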